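import Groth.Agent.RedCentre19.Descent
import Groth.Agent.GrpSchLib.TakeuchiInv
import Groth.Agent.GrpSchLib.SubHopf
import Groth.Agent.ComodLib.PrimCriteria
import Groth.Agent.ComodLib.Trig
import Groth.Agent.GrpSchLib.Deligne
import Groth.Agent.AlgGrpQ.UniBC

/-!
# A commutative group modulo its largest subgroup of multiplicative type is unipotent
-/

set_option autoImplicit false
set_option linter.style.haveILetI false

universe u

open TensorProduct WithConv Coalgebra

noncomputable section

namespace RedCentre19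

variable {k : Type u} [Field k] {A : Type u} [CommRing A] [HopfAlgebra k A] [Coalgebra.IsCocomm k A]

/-- Hopf ideals of cocommutative Hopf algebras are normal. -/
theorem isNormal (I : Ideal A) : SGA3.IsNormalHopfIdeal k A I := fun R _ _ g h hh a ha => by
  rw [Groth.Agent.HopfPtLib.conv3_eq, mul_comm (toConv g) (toConv h), mul_assoc,
    Groth.Agent.GrpSchLib.mul_antipode_comp (toConv g), mul_one]
  exact hh a ha

/-- A map to a group algebra over an extension kills `J`. -/
theorem kill_bialg {R : Type u} [CommRing R] [Algebra k R] {Λ : Type u} [CommGroup Λ]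
    (φ : R ⊗[k] A →ₐc[R] MonoidAlgebra R Λ) {x : A} (hx : x ∈ J k A) : φ ((1 : R) ⊗ₜ[k] x) = 0 := by
  classical
  refine MonoidAlgebra.coeff_injective (Finsupp.ext fun χ => ?_)
  let f : A →ₗ[k] R :=
    ((MonoidAlgebra.basis Λ R).coord χ).restrictScalars k ∘ₗ
      ((φ : R ⊗[k] A →ₐ[R] MonoidAlgebra R Λ).toLinearMap.restrictScalars k ∘ₗ
        (Algebra.TensorProduct.includeRight : A →ₐ[k] R ⊗[k] A).toLinearMap)
  have hf' : toConv f * toConv f = toConv f := by
    refine WithConv.ofConv_injective (LinearMap.ext fun a => ?_)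
    have h1 : TensorProduct.map (φ : R ⊗[k] A →ₗ[R] MonoidAlgebra R Λ) (φ : R ⊗[k] A →ₗ[R] MonoidAlgebra R Λ)
        (Coalgebra.comul (R := R) ((1 : R) ⊗ₜ[k] a)) = Coalgebra.comul (R := R) (φ ((1 : R) ⊗ₜ[k] a)) :=
      CoalgHomClass.map_comp_comul_apply _ _
    have h2 := congrArg (fun z => LinearMap.mul' R R (TensorProduct.map ((MonoidAlgebra.basis Λ R).coord χ)
      ((MonoidAlgebra.basis Λ R).coord χ) z)) h1
    rw [LinearMap.convMul_apply, ← (Coalgebra.Repr.arbitrary k a).eq]
    rw [TensorProduct.comul_tmul, CommSemiring.comul_apply, ← (Coalgebra.Repr.arbitrary k a).eq] at h2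
    simp only [map_sum, TensorProduct.tmul_sum, TensorProduct.map_tmul, LinearMap.mul'_apply] at h2 ⊢
    refine Eq.trans (Finset.sum_congr rfl fun i _ => ?_) (h2.trans ?_)
    · simp [f]
    · show _ = (MonoidAlgebra.basis Λ R).coord χ (φ ((1 : R) ⊗ₜ[k] a))
      conv_rhs => rw [← MonoidAlgebra.sum_coeff_single (φ ((1 : R) ⊗ₜ[k] a)), Finsupp.sum, map_sum]
      conv_lhs => rw [← MonoidAlgebra.sum_coeff_single (φ ((1 : R) ⊗ₜ[k] a)), Finsupp.sum, map_sum, map_sum, map_sum]
      refine Finset.sum_congr rfl fun ν _ => ?_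
      rw [show MonoidAlgebra.single ν ((φ ((1 : R) ⊗ₜ[k] a)).coeff ν) =
        (φ ((1 : R) ⊗ₜ[k] a)).coeff ν • MonoidAlgebra.single ν (1 : R) by simp, map_smul, map_smul, map_smul,
        map_smul]
      by_cases h : ν = χ <;> simp [MonoidAlgebra.basis, h]
  exact kill hf' hx

/-- `J` is contained in every Hopf ideal with quotient of multiplicative type. -/
theorem J_le (I : Ideal A) [I.IsHopfIdeal k] (hI : SGA3b.IsMultTypeConst k (A ⧸ I)) : J k A ≤ I := by
  obtain ⟨R', _, _, hff, M, _, ⟨e⟩⟩ := hI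
  intro x hx
  let q : R' ⊗[k] A →ₐc[R'] R' ⊗[k] (A ⧸ I) :=
    Bialgebra.TensorProduct.map (BialgHom.id R' R') (Bialgebra.Quotient.mkBialgHom I)
  have h := kill_bialg (BialgHom.comp (e : R' ⊗[k] (A ⧸ I) →ₐc[R'] MonoidAlgebra R' M) q) hx
  have h1 : e ((1 : R') ⊗ₜ[k] Ideal.Quotient.mk I x) = 0 := h
  rw [← map_zero e] at h1
  exact Ideal.Quotient.eq_zero_iff_mem.mp
    ((Module.FaithfullyFlat.one_tmul_eq_zero_iff (A := R') (M := A ⧸ I) k _).mp (EquivLike.injective e h1))

/-- A cocommutative Hopf algebra over an algebraically closed field whose only grouplike element is `1`. -/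
theorem isUnipotent_of_grouplike {K : Type u} [Field K] [IsAlgClosed K] {C : Type u} [CommRing C] [HopfAlgebra K C]
    [Coalgebra.IsCocomm K C] (h1 : ∀ c : C, IsGroupLikeElem K c → c = 1) : HopfRep.IsUnipotent K C := by
  intro V _ _ _ hfin hnt
  haveI := hfin
  obtain ⟨F, -, hsub, -, hrank⟩ := Groth.Agent.ComodLib.exists_flag
    (Groth.Agent.ComodLib.PrimDiag.isTrigonalizable_of_isCocomm (k := K) (A := C)) V
  have hpos : 1 ≤ Module.finrank K V := Module.finrank_pos
  have hr := hrank 1 hpos
  obtain ⟨q, hq0, hspan⟩ := finrank_eq_one_iff'.mp hr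
  obtain ⟨z, hz⟩ := hsub 1 (q : V) q.2
  obtain ⟨c, hc⟩ : ∃ c : C, z = q ⊗ₜ[K] c := by
    clear hz
    induction z using TensorProduct.induction_on with
    | zero => exact ⟨0, (tmul_zero _ _).symm⟩
    | tmul v a =>
      obtain ⟨r, rfl⟩ := hspan v
      exact ⟨r • a, TensorProduct.smul_tmul r q a⟩
    | add s t hs ht =>
      obtain ⟨a, rfl⟩ := hs
      obtain ⟨b, rfl⟩ := ht
      exact ⟨a + b, (tmul_add _ _ _).symm⟩
  rw [hc, LinearMap.rTensor_tmul] at hz
  have hco : HopfRep.Comod.coact (k := K) (A := C) (q : V) = (q : V) ⊗ₜ[K] c := hz.symm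
  obtain ⟨φ, hφ⟩ := Module.Projective.exists_dual_ne_zero K (fun h => hq0 (Subtype.ext h) : (q : V) ≠ 0)
  have hgl : IsGroupLikeElem K c := by
    constructor
    · have h := LinearMap.congr_fun (HopfRep.Comod.counit_comp (k := K) (A := C) (V := V)) (q : V)
      simp only [LinearMap.comp_apply, hco, LinearMap.lTensor_tmul] at h
      have h' := congrArg (fun z => TensorProduct.lid K K (LinearMap.rTensor K φ z)) h
      simp at h'
      exact mul_left_cancel₀ hφ (h'.trans (_root_.mul_one _).symm)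
    · have h := LinearMap.congr_fun (HopfRep.Comod.coassoc (k := K) (A := C) (V := V)) (q : V)
      simp only [LinearMap.comp_apply, hco, LinearMap.lTensor_tmul, LinearMap.rTensor_tmul] at h
      have h' := congrArg (fun z => TensorProduct.lid K (C ⊗[K] C) (LinearMap.rTensor (C ⊗[K] C) φ z)) h
      simp [smul_right_inj hφ] at h'
      exact h'.symm
  intro h0
  refine hq0 (Subtype.ext ?_)
  have hmem : (q : V) ∈ HopfRep.fixedPts K C V := by
    show HopfRep.Comod.coact (k := K) (A := C) (q : V) = (q : V) ⊗ₜ[K] (1 : C)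
    rw [hco, h1 c hgl]
  rw [h0] at hmem
  exact hmem

/-- The largest multiplicative subgroup and the unipotent quotient. -/
theorem exists_largest [Algebra.FiniteType k A] :
    ∃ (I₀ : Ideal A) (_ : I₀.IsHopfIdeal k), SGA3b.IsMultTypeConst k (A ⧸ I₀) ∧
      (∀ (I : Ideal A) [I.IsHopfIdeal k], SGA3b.IsMultTypeConst k (A ⧸ I) → I₀ ≤ I) ∧
      ∃ (B : Type u) (_ : CommRing B) (_ : HopfAlgebra k B) (φ : B →ₐc[k] A), Function.Injective φ ∧
        I₀ = Ideal.map (φ : B →+* A) (RingHom.ker (Bialgebra.counitAlgHom k B)) ∧ HopfRep.IsUnipotent k B := by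
  classical
  refine ⟨J k A, inferInstance, isMultTypeConst, J_le, ?_⟩
  let B := Groth.Agent.GrpSchLib.TakeuchiInv.inv (k := k) (J k A)
  have hB := Groth.Agent.GrpSchLib.TakeuchiInv.isHopfSubalgebra_inv (isNormal (k := k) (J k A))
  letI : HopfAlgebra k B := Groth.Agent.GrpSchLib.SubHopf.hopf B hB
  let φ : B →ₐc[k] A :=
    BialgHom.ofAlgHom B.val rfl (AlgHom.ext fun c => Groth.Agent.GrpSchLib.SubHopf.map_comulRes B hB c)
  have hJ : J k A = Ideal.map (φ : B →+* A) (RingHom.ker (Bialgebra.counitAlgHom k B)) := by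
    refine (Groth.Agent.GrpSchLib.TakeuchiInv.eq_augIdealSpan_inv (isNormal (k := k) (J k A))).trans ?_
    refine le_antisymm (Ideal.span_le.mpr ?_) (Ideal.map_le_iff_le_comap.mpr ?_)
    · rintro x ⟨hxB, hx⟩
      exact Ideal.mem_map_of_mem (φ : B →+* A) (x := ⟨x, hxB⟩)
        (show (⟨x, hxB⟩ : B) ∈ RingHom.ker (Bialgebra.counitAlgHom k B) from hx)
    · intro b hb
      exact Ideal.subset_span ⟨b.2, (show counit (R := k) (b : A) = 0 from hb)⟩
  refine ⟨B, inferInstance, inferInstance, φ, Subtype.val_injective, hJ, ?_⟩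
  haveI : Coalgebra.IsCocomm k B := by
    constructor
    refine LinearMap.ext fun b => ?_
    apply TensorProduct.map_injective_of_flat_flat B.val.toLinearMap B.val.toLinearMap Subtype.val_injective Subtype.val_injective
    have h1 : TensorProduct.map B.val.toLinearMap B.val.toLinearMap (comul (R := k) b) = comul (R := k) (b : A) :=
      Groth.Agent.GrpSchLib.SubHopf.map_comulRes B hB b
    show TensorProduct.map _ _ (TensorProduct.comm k B B (comul (R := k) b)) = _
    rw [TensorProduct.map_comm, h1, comm_comul]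
  refine Groth.Agent.AlgGrpQ.isUnipotent_of_baseChange (K := AlgebraicClosure k) ?_
  refine isUnipotent_of_grouplike fun c hc => ?_
  let Φ : AlgebraicClosure k ⊗[k] B →ₐc[AlgebraicClosure k] AlgebraicClosure k ⊗[k] A :=
    Bialgebra.TensorProduct.map (BialgHom.id _ _) φ
  have hΦ : Function.Injective Φ :=
    Module.Flat.lTensor_preserves_injective_linearMap (M := AlgebraicClosure k) B.val.toLinearMap Subtype.val_injective
  have hmk : ∀ z, mk' k A (Φ z) = counit (R := AlgebraicClosure k) z ⊗ₜ[k] (1 : A ⧸ J k A) := by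
    intro z
    induction z using TensorProduct.induction_on with
    | zero => simp
    | add s t hs ht => simp only [map_add, hs, ht, add_tmul]
    | tmul s b =>
      show s ⊗ₜ[k] Ideal.Quotient.mk (J k A) (b : A) = _
      have hb : (b : A) - algebraMap k A (counit (R := k) b) ∈ J k A := by
        rw [hJ]
        refine Ideal.mem_map_of_mem (φ : B →+* A) (x := b - algebraMap k B (counit (R := k) b)) ?_
        rw [RingHom.mem_ker, map_sub, AlgHom.commutes]
        exact sub_self _
      have hb' : Ideal.Quotient.mk (J k A) (b : A) = counit (R := k) b • 1 :=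
        (Ideal.Quotient.eq.mpr hb).trans (Algebra.algebraMap_eq_smul_one (R := k) (A := A ⧸ J k A) _)
      rw [hb', TensorProduct.tmul_smul, TensorProduct.smul_tmul', TensorProduct.counit_tmul, CommSemiring.counit_apply]
  have h1 : proj (AlgebraicClosure k) (A := AlgebraicClosure k ⊗[k] A) (Φ c) = MonoidAlgebra.single 1 1 := by
    rw [← ψ_mk', hmk, hc.counit_eq_one]
    exact map_one (ψ k A)
  have h2 : proj (AlgebraicClosure k) (A := AlgebraicClosure k ⊗[k] A) (Φ c) = MonoidAlgebra.single ⟨Φ c, hc.map Φ⟩ 1 := by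
    rw [proj_apply]; exact pL_val ⟨Φ c, hc.map Φ⟩
  rw [h2] at h1
  have h3 := MonoidAlgebra.single_left_injective one_ne_zero h1
  exact hΦ ((congrArg GroupLike.val h3).trans (map_one Φ).symm)

end RedCentre19
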