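import Groth.Agent.RedCentre19.Proj
import Groth.Agent.S14536
import Groth.Agent.AlgGrpQ.GLDescent
import Groth.Prelude
import Mathlib.RingTheory.HopfAlgebra.Quotient
import Mathlib.RingTheory.HopfAlgebra.TensorProduct
import Mathlib.FieldTheory.IsAlgClosed.AlgebraicClosure

/-!
# The largest multiplicative quotient of a cocommutative Hopf algebra over a field

`J` is the ideal of the elements killed by every idempotent functional with values in every
`k`-algebra; `A ⧸ J` is of multiplicative type.
-/

set_option autoImplicit false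
set_option linter.style.haveILetI false

universe u

open TensorProduct WithConv Coalgebra

noncomputable section

namespace RedCentre19

variable {k : Type u} [Field k] {A : Type u} [CommRing A] [HopfAlgebra k A] [Coalgebra.IsCocomm k A]

local notation "K" => AlgebraicClosure k

omit [Coalgebra.IsCocomm k A] in
/-- Extension of scalars of a field is faithful. -/
theorem eq_zero_of_one_tmul {M : Type u} [AddCommGroup M] [Module k M] {m : M} (h : (1 : K) ⊗ₜ[k] m = 0) : m = 0 := by
  obtain ⟨φ, hφ⟩ := LinearMap.exists_leftInverse_of_injective (Algebra.linearMap k K)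
    (LinearMap.ker_eq_bot.mpr (algebraMap k K).injective)
  have h1 := congrArg (fun z => TensorProduct.lid k M (LinearMap.rTensor M φ z)) h
  have h2 : φ 1 = 1 := by simpa using LinearMap.congr_fun hφ 1
  simpa [h2] using h1

variable {R : Type u} [CommRing R] [Algebra k R]

/-- Idempotent functionals after extension of scalars. -/
theorem baseChange_idem {f : WithConv (A →ₗ[k] R)} (hf : f * f = f) :
    (toConv (f.ofConv.baseChange K) : WithConv (K ⊗[k] A →ₗ[K] K ⊗[k] R)) * toConv (f.ofConv.baseChange K) =
      toConv (f.ofConv.baseChange K) := by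
  refine WithConv.ofConv_injective (LinearMap.ext fun x => ?_)
  induction x using TensorProduct.induction_on with
  | zero => simp
  | add x y hx hy => simp only [map_add, hx, hy]
  | tmul c a =>
    rw [LinearMap.convMul_apply, TensorProduct.comul_tmul, ← (ℛ k a).eq]
    have h1 : (f * f) a = f a := by rw [hf]
    rw [LinearMap.convMul_apply, ← (ℛ k a).eq] at h1
    simp only [map_sum, TensorProduct.tmul_sum, TensorProduct.map_tmul, LinearMap.mul'_apply] at h1 ⊢
    show _ = c ⊗ₜ[k] f a
    rw [← h1, TensorProduct.tmul_sum]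
    exact Finset.sum_congr rfl fun i _ => by simp

variable (k A) in
/-- The map to the group algebra of the grouplike elements over the algebraic closure. -/
def P : A →ₐ[k] MonoidAlgebra K (GroupLike K (K ⊗[k] A)) :=
  ((proj K (A := K ⊗[k] A) : K ⊗[k] A →ₐ[K] MonoidAlgebra K (GroupLike K (K ⊗[k] A))).restrictScalars k).comp
    Algebra.TensorProduct.includeRight

variable (k A) in
/-- The ideal of the largest subgroup of multiplicative type. -/
def J : Ideal A := RingHom.ker (P k A)

theorem mem_J {a : A} : a ∈ J k A ↔ proj K ((1 : K) ⊗ₜ[k] a) = 0 := Iff.rfl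

/-- `idem_eq_zero` over the algebraic closure. -/
theorem idem_eq_zero' {f : WithConv (K ⊗[k] A →ₗ[K] K ⊗[k] R)} (hf : f * f = f) {x : K ⊗[k] A}
    (hx : proj K x = 0) : f x = 0 :=
  idem_eq_zero hf hx

/-- Idempotent functionals kill `J`. -/
theorem kill {f : WithConv (A →ₗ[k] R)} (hf : f * f = f) {a : A} (ha : a ∈ J k A) : f a = 0 := by
  have h := idem_eq_zero' (baseChange_idem hf) (mem_J.mp ha)
  rw [ofConv_toConv, LinearMap.baseChange_tmul] at h
  exact eq_zero_of_one_tmul h

variable (k A) in
/-- The quotient map after extension of scalars. -/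
def mk' : K ⊗[k] A →ₗ[K] K ⊗[k] (A ⧸ J k A) := (Ideal.Quotient.mkₐ k (J k A)).toLinearMap.baseChange K

theorem mk'_surjective : Function.Surjective (mk' k A) := fun z => by
  obtain ⟨x, hx⟩ := LinearMap.lTensor_surjective K (g := (Ideal.Quotient.mkₐ k (J k A)).toLinearMap)
    Ideal.Quotient.mk_surjective z
  exact ⟨x, hx⟩

/-- The kernel of the projection comes from `J`. -/
theorem mk'_eq_zero {x : K ⊗[k] A} (hx : proj K x = 0) : mk' k A x = 0 := by
  classical
  let β := Module.Free.chooseBasis k K
  obtain ⟨a, rfl⟩ : ∃ a : _ →₀ A, a.sum (fun i m => β i ⊗ₜ[k] m) = x := by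
    refine ⟨TensorProduct.equivFinsuppOfBasisLeft β x, ?_⟩
    exact ((TensorProduct.equivFinsuppOfBasisLeft_symm_apply β _).symm.trans (LinearEquiv.symm_apply_apply _ x))
  have hJ : ∀ i, a i ∈ J k A := by
    intro i
    refine mem_J.mpr (MonoidAlgebra.coeff_injective (Finsupp.ext fun γ => ?_))
    rw [MonoidAlgebra.coeff_zero, Finsupp.zero_apply, proj_apply, coeff_pL]
    let g : A →ₗ[k] K := ((e γ).ofConv.restrictScalars k).comp (Algebra.TensorProduct.includeRight : A →ₐ[k] K ⊗[k] A).toLinearMap
    have hg : toConv g * toConv g = toConv g := by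
      refine WithConv.ofConv_injective (LinearMap.ext fun b => ?_)
      have h1 : (e γ * e γ) ((1 : K) ⊗ₜ[k] b) = e γ ((1 : K) ⊗ₜ[k] b) := by rw [e_idem]
      rw [LinearMap.convMul_apply, TensorProduct.comul_tmul, ← (ℛ k b).eq] at h1
      rw [LinearMap.convMul_apply, ← (ℛ k b).eq]
      simp only [map_sum, TensorProduct.tmul_sum, TensorProduct.map_tmul, LinearMap.mul'_apply] at h1 ⊢
      refine Eq.trans (Finset.sum_congr rfl fun i _ => ?_) h1
      simp [g]
    have h := idem_eq_zero' (R := K) (baseChange_idem hg) hx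
    simp only [ofConv_toConv, Finsupp.sum, map_sum, LinearMap.baseChange_tmul] at h
    have h2 := congrArg (fun z => TensorProduct.equivFinsuppOfBasisLeft β z i) h
    simp only [map_sum, Finsupp.finsetSum_apply, map_zero, Finsupp.zero_apply] at h2
    rw [Finset.sum_eq_single i (fun j _ hj => by simp [hj]) (fun hi => by
      simp [Finsupp.notMem_support_iff.mp hi])] at h2
    simp at h2
    exact h2
  rw [Finsupp.sum, map_sum]
  refine Finset.sum_eq_zero fun i _ => ?_
  show β i ⊗ₜ[k] Ideal.Quotient.mk (J k A) (a i) = 0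
  rw [Ideal.Quotient.eq_zero_iff_mem.mpr (hJ i), tmul_zero]

variable (k A) in
/-- The induced map on the base change of the quotient. -/
def ψ : K ⊗[k] (A ⧸ J k A) →ₐ[K] MonoidAlgebra K (GroupLike K (K ⊗[k] A)) :=
  Algebra.TensorProduct.lift (Algebra.ofId K _) (Ideal.Quotient.liftₐ (J k A) (P k A) fun _ h => h)
    fun _ _ => Commute.all _ _

theorem ψ_mk' (x : K ⊗[k] A) : ψ k A (mk' k A x) = proj K x := by
  induction x using TensorProduct.induction_on with
  | zero => simp
  | add x y hx hy => simp only [map_add, hx, hy]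
  | tmul c a =>
    show algebraMap K _ c * proj K ((1 : K) ⊗ₜ[k] a) = _
    rw [← Algebra.smul_def, ← map_smul, TensorProduct.smul_tmul', smul_eq_mul, _root_.mul_one]

theorem ψ_bijective : Function.Bijective (ψ k A) := by
  refine ⟨(injective_iff_map_eq_zero _).mpr fun z hz => ?_, fun y => ?_⟩
  · obtain ⟨x, rfl⟩ := mk'_surjective z
    exact mk'_eq_zero (by rwa [ψ_mk'] at hz)
  · obtain ⟨x, rfl⟩ := proj_surjective y
    exact ⟨mk' k A x, ψ_mk' x⟩

/-- `J` is a Hopf ideal. -/
instance isHopfIdeal_J : (J k A).IsHopfIdeal k where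
  counit_eq_zero := fun a ha => by
    refine (algebraMap k K).injective ?_
    rw [map_zero]
    have h : counit (R := K) (proj K ((1 : K) ⊗ₜ[k] a)) = counit (R := K) ((1 : K) ⊗ₜ[k] a) :=
      CoalgHomClass.counit_comp_apply _ _
    rw [mem_J.mp ha, map_zero, TensorProduct.counit_tmul] at h
    rw [h, CommSemiring.counit_apply, Algebra.smul_def, _root_.mul_one]
  map_mkQ_comul_eq_zero := fun a ha => by
    let q : A →ₗ[k] A ⧸ (J k A).restrictScalars k := Submodule.mkQ _
    show TensorProduct.map q q (comul (R := k) a) = 0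
    let d := TensorProduct.AlgebraTensorModule.distribBaseChange k K (A ⧸ (J k A).restrictScalars k)
      (A ⧸ (J k A).restrictScalars k)
    refine eq_zero_of_one_tmul (d.injective ?_)
    rw [map_zero]
    let ψL : K ⊗[k] (A ⧸ (J k A).restrictScalars k) ≃ₗ[K] MonoidAlgebra K (GroupLike K (K ⊗[k] A)) :=
      (AlgEquiv.ofBijective (ψ k A) ψ_bijective).toLinearEquiv
    refine (TensorProduct.congr ψL ψL).injective ?_
    rw [map_zero]
    have h : comul (R := K) (proj K ((1 : K) ⊗ₜ[k] a)) =
        TensorProduct.map (proj K (A := K ⊗[k] A) : K ⊗[k] A →ₗ[K] _)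
          (proj K (A := K ⊗[k] A) : K ⊗[k] A →ₗ[K] _) (comul (R := K) ((1 : K) ⊗ₜ[k] a)) :=
      (CoalgHomClass.map_comp_comul_apply _ _).symm
    rw [mem_J.mp ha, map_zero, TensorProduct.comul_tmul, CommSemiring.comul_apply] at h
    rw [h, ← (ℛ k a).eq]
    simp only [map_sum, TensorProduct.tmul_sum, TensorProduct.map_tmul]
    refine Finset.sum_congr rfl fun i _ => ?_
    show ψ k A (mk' k A ((1 : K) ⊗ₜ _)) ⊗ₜ[K] ψ k A (mk' k A ((1 : K) ⊗ₜ _)) = _
    rw [ψ_mk', ψ_mk']
    rfl
  antipode_mem := fun a ha => by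
    refine mem_J.mpr ?_
    have h := Groth.Agent.S14536.antipode_bialgHom (proj K (A := K ⊗[k] A)) ((1 : K) ⊗ₜ[k] a)
    rw [mem_J.mp ha, map_zero] at h
    rw [h, TensorProduct.antipode_def]
    simp

/-- The quotient is diagonalisable over the algebraic closure. -/
theorem isMultTypeConst : SGA3b.IsMultTypeConst k (A ⧸ J k A) := by
  refine ⟨K, inferInstance, inferInstance, inferInstance, GroupLike K (K ⊗[k] A), inferInstance, ?_⟩
  let q : K ⊗[k] A →ₐc[K] K ⊗[k] (A ⧸ J k A) :=
    Bialgebra.TensorProduct.map (BialgHom.id K K) (Bialgebra.Quotient.mkBialgHom (J k A))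
  have hqm : ∀ x, q x = mk' k A x := fun x => by
    induction x using TensorProduct.induction_on with
    | zero => simp
    | add x y hx hy => simp only [map_add, hx, hy]
    | tmul c a => rfl
  have hq : Function.Surjective q := fun z => by
    obtain ⟨x, rfl⟩ := mk'_surjective z
    exact ⟨x, hqm x⟩
  obtain ⟨φ, hφ⟩ := Groth.Agent.AlgGrpQ.exists_bialgHom_of_surjective q hq (proj K) (ψ k A) fun x => by
    rw [hqm, ψ_mk']
  refine ⟨BialgEquiv.ofBijective φ ?_⟩
  rw [show (φ : K ⊗[k] (A ⧸ J k A) → _) = ψ k A from funext hφ]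
  exact ψ_bijective

end RedCentre19
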