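import Groth.Agent.S8220
import Mathlib.RingTheory.Coalgebra.Convolution
import Mathlib.RingTheory.Coalgebra.GroupLike
import Mathlib.RingTheory.Idempotents
import Mathlib.RingTheory.Artinian.Module
import Mathlib.RingTheory.Spectrum.Prime.Topology
import Mathlib.RingTheory.Spectrum.Prime.Noetherian
import Mathlib.RingTheory.Nilpotent.Basic
import Mathlib.FieldTheory.IsAlgClosed.Basic

/-!
# Idempotents of the convolution algebra of a cocommutative coalgebra

Over an algebraically closed field `K`, idempotent functionals on a cocommutative coalgebra `C`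
are determined by their values at grouplike elements, and every grouplike element `γ` has an
idempotent functional `e γ` which is `1` at `γ` and `0` at the other grouplike elements.
-/

set_option autoImplicit false
set_option linter.style.haveILetI false

universe u v w

open TensorProduct WithConv Coalgebra

noncomputable section

namespace RedCentre19

variable {K : Type u} [Field K] {C : Type v} [AddCommGroup C] [Module K C] [Coalgebra K C]
  [Coalgebra.IsCocomm K C] {R : Type w} [CommRing R] [Algebra K R]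

/-- The condition of being a subcoalgebra. -/
def SubC (D : Submodule K C) : Prop :=
  ∀ b ∈ D, comul (R := K) b ∈ LinearMap.range (TensorProduct.map D.subtype D.subtype)

/-- The functionals killing a subcoalgebra. -/
def ann (D : Submodule K C) (hD : SubC D) : Ideal (WithConv (C →ₗ[K] R)) where
  carrier := {f | ∀ x ∈ D, f x = 0}
  add_mem' := fun {f g} hf hg x hx => by
    show f x + g x = 0
    rw [hf x hx, hg x hx, add_zero]
  zero_mem' := fun _ _ => rfl
  smul_mem' := fun g f hf x hx => by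
    obtain ⟨y, hy⟩ := hD x hx
    show (g * f) x = 0
    rw [LinearMap.convMul_apply, ← hy, ← LinearMap.comp_apply (TensorProduct.map _ _), ← TensorProduct.map_comp,
      show f.ofConv ∘ₗ D.subtype = 0 from LinearMap.ext fun z => hf z z.2, TensorProduct.map_zero_right]
    simp

/-- An element of a finite subcoalgebra. -/
theorem exists_subC (s : Finset C) : ∃ D : Submodule K C, Module.Finite K D ∧ (↑s : Set C) ⊆ D ∧ SubC D :=
  Groth.Agent.S8220.result s

/-- Evaluation of a product at a grouplike element. -/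
theorem conv_grp (f g : WithConv (C →ₗ[K] R)) {d : C} (hd : IsGroupLikeElem K d) : (f * g) d = f d * g d := by
  rw [LinearMap.convMul_apply, hd.comul_eq_tmul_self]
  simp

theorem one_grp {d : C} (hd : IsGroupLikeElem K d) : (1 : WithConv (C →ₗ[K] R)) d = 1 := by
  rw [LinearMap.convOne_apply, hd.counit_eq_one, map_one]

/-- Functionals separate the tensor square. -/
theorem ext_tensor {x y : C ⊗[K] C}
    (h : ∀ f g : C →ₗ[K] K, LinearMap.mul' K K (TensorProduct.map f g x) = LinearMap.mul' K K (TensorProduct.map f g y)) :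
    x = y := by
  let b := Module.Free.chooseBasis K C
  refine (b.tensorProduct b).repr.injective (Finsupp.ext fun ij => ?_)
  have key : ∀ z : C ⊗[K] C, (b.tensorProduct b).repr z ij =
      LinearMap.mul' K K (TensorProduct.map (b.coord ij.1) (b.coord ij.2) z) := fun z => by
    induction z using TensorProduct.induction_on with
    | zero => simp
    | tmul p q =>
      rw [show ij = (ij.1, ij.2) from rfl, Module.Basis.tensorProduct_repr_tmul_apply]
      simp [mul_comm]
    | add p q hp hq => simp only [map_add, Finsupp.add_apply, hp, hq]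
  rw [key, key, h]

/-- A functional on `C` extending functionals on `D`. -/
theorem exists_retraction (D : Submodule K C) : ∃ p : C →ₗ[K] D, p ∘ₗ D.subtype = LinearMap.id :=
  LinearMap.exists_leftInverse_of_injective _ (LinearMap.ker_eq_bot.mpr Subtype.val_injective)

/-- Extension of functionals along a retraction. -/
def extp {D : Submodule K C} (p : C →ₗ[K] D) : Module.Dual K D →ₗ[K] WithConv (C →ₗ[K] K) where
  toFun f := toConv (f ∘ₗ p)
  map_add' _ _ := rfl
  map_smul' _ _ := rfl

theorem subC_le {D : Submodule K C} [Module.Finite K D] (s : Finset C) :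
    ∃ D' : Submodule K C, Module.Finite K D' ∧ SubC D' ∧ D ≤ D' ∧ (↑s : Set C) ⊆ D' := by
  classical
  obtain ⟨t, ht⟩ := (Module.Finite.iff_fg (N := D)).mp inferInstance
  obtain ⟨D', h1, h2, h3⟩ := exists_subC (K := K) (s ∪ t)
  rw [Finset.coe_union, Set.union_subset_iff] at h2
  exact ⟨D', h1, h3, ht ▸ Submodule.span_le.mpr h2.2, h2.1⟩

variable (D : Submodule K C) (hD : SubC D)

theorem mk_eq_iff {f g : WithConv (C →ₗ[K] R)} :
    Ideal.Quotient.mk (ann D hD) f = Ideal.Quotient.mk (ann D hD) g ↔ ∀ x ∈ D, f x = g x := by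
  rw [Ideal.Quotient.eq]
  exact ⟨fun h x hx => sub_eq_zero.mp (h x hx), fun h x hx => sub_eq_zero.mpr (h x hx)⟩

/-- Points of the algebra dual to `D` are grouplike elements. -/
theorem exists_point [Module.Finite K D] (φ : (WithConv (C →ₗ[K] K) ⧸ ann D hD) →ₐ[K] K) :
    ∃ d ∈ D, IsGroupLikeElem K d ∧ ∀ f, φ (Ideal.Quotient.mk _ f) = f d := by
  obtain ⟨p, hp⟩ := exists_retraction D
  let L : Module.Dual K D →ₗ[K] K :=
    φ.toLinearMap ∘ₗ (Ideal.Quotient.mkₐ K (ann D hD)).toLinearMap ∘ₗ extp p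
  obtain ⟨d, hd⟩ := (Module.evalEquiv K D).surjective L
  have key : ∀ f, φ (Ideal.Quotient.mk _ f) = f (d : C) := by
    intro f
    have h1 : φ (Ideal.Quotient.mk _ f) = L (f.ofConv ∘ₗ D.subtype) := by
      refine congrArg φ ((mk_eq_iff D hD).mpr fun x hx => ?_)
      have := LinearMap.congr_fun hp ⟨x, hx⟩
      simp only [LinearMap.comp_apply, Submodule.subtype_apply, LinearMap.id_apply] at this
      show f x = f.ofConv (D.subtype (p x))
      rw [this]
      rfl
    rw [h1, ← hd]
    rfl
  refine ⟨d, d.2, ⟨?_, ?_⟩, key⟩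
  · have h1 := key 1
    rw [map_one, map_one, LinearMap.convOne_apply, Algebra.algebraMap_self, RingHom.id_apply] at h1
    exact h1.symm
  · refine ext_tensor fun f g => ?_
    have h1 : φ (Ideal.Quotient.mk _ (toConv f * toConv g)) =
        φ (Ideal.Quotient.mk _ (toConv f)) * φ (Ideal.Quotient.mk _ (toConv g)) := by
      rw [map_mul, map_mul]
    rw [key, key, key, LinearMap.convMul_apply] at h1
    simpa using h1

theorem finite_grouplike [Module.Finite K D] : {d : C | IsGroupLikeElem K d ∧ d ∈ D}.Finite := by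
  have h := (linearIndepOn_isGroupLikeElem (R := K) (A := C)).mono
    (show {d : C | IsGroupLikeElem K d ∧ d ∈ D} ⊆ _ from fun d hd => hd.1)
  have h' : LinearIndependent K (fun x : {d : C | IsGroupLikeElem K d ∧ d ∈ D} => (⟨x.1, x.2.2⟩ : D)) :=
    LinearIndependent.of_comp D.subtype h
  exact Set.finite_coe_iff.mp h'.finite

instance finite_quot [Module.Finite K D] : Module.Finite K (WithConv (C →ₗ[K] K) ⧸ ann D hD) := by
  obtain ⟨p, hp⟩ := exists_retraction D
  refine Module.Finite.of_surjective ((Ideal.Quotient.mkₐ K (ann D hD)).toLinearMap ∘ₗ extp p) fun a => ?_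
  obtain ⟨f, rfl⟩ := Ideal.Quotient.mk_surjective a
  refine ⟨f.ofConv ∘ₗ D.subtype, ?_⟩
  show Ideal.Quotient.mk (ann D hD) _ = _
  refine (mk_eq_iff D hD).mpr fun x hx => ?_
  have := LinearMap.congr_fun hp ⟨x, hx⟩
  simp only [LinearMap.comp_apply, Submodule.subtype_apply, LinearMap.id_apply] at this
  show f.ofConv (D.subtype (p x)) = f.ofConv x
  rw [this]
  rfl

variable [IsAlgClosed K]


include hD in
/-- Functionals vanishing at the grouplike elements of `D` are nilpotent on `D`. -/
theorem isNilpotent_mk [Module.Finite K D] (h : WithConv (C →ₗ[K] R))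
    (h0 : ∀ d ∈ D, IsGroupLikeElem K d → h d = 0) : IsNilpotent (Ideal.Quotient.mk (ann D hD) h) := by
  classical
  rw [← mem_nilradical, nilradical_eq_sInf, Ideal.mem_sInf]
  intro P hP
  haveI : P.IsPrime := hP
  let ι₀ : WithConv (C →ₗ[K] K) →ₐ[K] WithConv (C →ₗ[K] R) :=
    AlgHom.ofLinearMap
      { toFun := fun f => toConv (Algebra.linearMap K R ∘ₗ f.ofConv)
        map_add' := fun f g => WithConv.ofConv_injective (LinearMap.ext fun x => map_add (algebraMap K R) (f x) (g x))
        map_smul' := fun c f => WithConv.ofConv_injective (LinearMap.ext fun x => by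
          show algebraMap K R (c * f x) = c • algebraMap K R (f x)
          rw [map_mul, Algebra.smul_def]) }
      (WithConv.ofConv_injective (LinearMap.ext fun x => by
        show algebraMap K R ((1 : WithConv (C →ₗ[K] K)) x) = (1 : WithConv (C →ₗ[K] R)) x
        simp [LinearMap.convOne_apply]))
      (fun f g => WithConv.ofConv_injective (LinearMap.algHom_comp_convMul_distrib (Algebra.ofId K R) f g))
  let ψ₀ : WithConv (C →ₗ[K] K) →ₐ[K] (WithConv (C →ₗ[K] R) ⧸ ann D hD) ⧸ P :=
    (Ideal.Quotient.mkₐ K P).comp ((Ideal.Quotient.mkₐ K (ann D hD)).comp ι₀)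
  let ψ : (WithConv (C →ₗ[K] K) ⧸ ann D hD) →ₐ[K] (WithConv (C →ₗ[K] R) ⧸ ann D hD) ⧸ P :=
    Ideal.Quotient.liftₐ _ ψ₀ fun f hf => by
      show Ideal.Quotient.mk P (Ideal.Quotient.mk (ann D hD) (ι₀ f)) = 0
      have hmem : ι₀ f ∈ ann (R := R) D hD := fun x hx => by
        show algebraMap K R (f x) = 0
        rw [hf x hx, map_zero]
      rw [(Ideal.Quotient.eq_zero_iff_mem (I := ann D hD)).mpr hmem, map_zero]
  haveI : Algebra.IsIntegral K ψ.range :=
    haveI : Module.Finite K ψ.range := Module.Finite.of_surjective ψ.rangeRestrict.toLinearMap ψ.rangeRestrict_surjective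
    Algebra.IsIntegral.of_finite K _
  have hb := IsAlgClosed.algebraMap_bijective_of_isIntegral (k := K) (K := ψ.range)
  let φ : (WithConv (C →ₗ[K] K) ⧸ ann D hD) →ₐ[K] K :=
    ((AlgEquiv.ofBijective (Algebra.ofId K ψ.range) hb).symm.toAlgHom).comp ψ.rangeRestrict
  obtain ⟨d, hdD, hd, hev⟩ := exists_point D hD φ
  have hψ : ∀ f, ψ (Ideal.Quotient.mk _ f) = algebraMap K _ (f d) := fun f => by
    rw [← hev]
    exact congrArg Subtype.val
      ((AlgEquiv.ofBijective (Algebra.ofId K ψ.range) hb).apply_symm_apply (ψ.rangeRestrict (Ideal.Quotient.mk _ f))).symm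
  obtain ⟨p, hp⟩ := exists_retraction D
  let b := Module.finBasis K D
  have hexp : Ideal.Quotient.mk (ann D hD) h =
      Ideal.Quotient.mk (ann D hD) (∑ i, h (b i : C) • ι₀ (toConv (b.coord i ∘ₗ p))) := by
    refine (mk_eq_iff D hD).mpr fun x hx => ?_
    have hpx := LinearMap.congr_fun hp ⟨x, hx⟩
    simp only [LinearMap.comp_apply, Submodule.subtype_apply, LinearMap.id_apply] at hpx
    show h x = (∑ i, h (b i : C) • ι₀ (toConv (b.coord i ∘ₗ p))).ofConv x
    rw [WithConv.ofConv_sum, LinearMap.sum_apply]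
    conv_lhs => rw [show x = ((⟨x, hx⟩ : D) : C) from rfl, ← b.sum_repr ⟨x, hx⟩]
    simp only [Submodule.coe_sum, Submodule.coe_smul, map_sum, map_smul]
    refine Finset.sum_congr rfl fun i _ => ?_
    show b.repr ⟨x, hx⟩ i • h (b i : C) = h (b i : C) * algebraMap K R (b.coord i (p x))
    rw [hpx, Algebra.smul_def, mul_comm]
    rfl
  rw [← Ideal.Quotient.eq_zero_iff_mem, hexp, map_sum, map_sum]
  have htower : ∀ c : K, algebraMap K (WithConv (C →ₗ[K] R)) c =
      algebraMap R (WithConv (C →ₗ[K] R)) (algebraMap K R c) := fun c =>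
    WithConv.ofConv_injective (LinearMap.ext fun x => by
      show c • algebraMap K R (counit x) = algebraMap K R c • algebraMap K R (counit x)
      rw [Algebra.smul_def, smul_eq_mul])
  have hterm : ∀ i, Ideal.Quotient.mk P (Ideal.Quotient.mk (ann D hD) (h (b i : C) • ι₀ (toConv (b.coord i ∘ₗ p)))) =
      Ideal.Quotient.mk P (Ideal.Quotient.mk (ann D hD)
        (algebraMap R _ (h (b i : C) * algebraMap K R (b.coord i (p d))))) := by
    intro i
    have h2 : Ideal.Quotient.mk P (Ideal.Quotient.mk (ann D hD) (ι₀ (toConv (b.coord i ∘ₗ p)))) =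
        Ideal.Quotient.mk P (Ideal.Quotient.mk (ann D hD) (algebraMap K _ (b.coord i (p d)))) :=
      hψ (toConv (b.coord i ∘ₗ p))
    rw [Algebra.smul_def, map_mul, map_mul, h2, htower, map_mul (algebraMap R _), map_mul, map_mul]
  simp only [hterm, ← map_sum]
  have hsum : ∑ i, h (b i : C) * algebraMap K R (b.coord i (p d)) = 0 := by
    rw [← h0 d hdD hd]
    have hpd := LinearMap.congr_fun hp ⟨d, hdD⟩
    simp only [LinearMap.comp_apply, Submodule.subtype_apply, LinearMap.id_apply] at hpd
    conv_rhs => rw [show d = ((⟨d, hdD⟩ : D) : C) from rfl, ← b.sum_repr ⟨d, hdD⟩]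
    simp only [Submodule.coe_sum, Submodule.coe_smul, map_sum, map_smul]
    exact Finset.sum_congr rfl fun i _ => by rw [hpd, Algebra.smul_def, mul_comm]; rfl
  rw [hsum, map_zero, map_zero, map_zero]

include hD in
/-- Idempotent functionals agreeing at the grouplike elements of `D` agree on `D`. -/
theorem agree [Module.Finite K D] {f g : WithConv (C →ₗ[K] R)} (hf : ∀ x ∈ D, (f * f) x = f x)
    (hg : ∀ x ∈ D, (g * g) x = g x) (h : ∀ d ∈ D, IsGroupLikeElem K d → f d = g d) : ∀ x ∈ D, f x = g x := by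
  refine (mk_eq_iff D hD).mp (eq_of_isNilpotent_sub_of_isIdempotentElem ?_ ?_ ?_)
  · show Ideal.Quotient.mk (ann D hD) f * Ideal.Quotient.mk (ann D hD) f = _
    rw [← map_mul, mk_eq_iff]; exact hf
  · show Ideal.Quotient.mk (ann D hD) g * Ideal.Quotient.mk (ann D hD) g = _
    rw [← map_mul, mk_eq_iff]; exact hg
  · rw [← map_sub]
    exact isNilpotent_mk D hD (f - g) fun d hd hd' => sub_eq_zero.mpr (h d hd hd')

include hD in
/-- On `D`, an idempotent separating one grouplike element. -/
theorem exists_idem [Module.Finite K D] {γ : C} (hγD : γ ∈ D) (hγ : IsGroupLikeElem K γ) :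
    ∃ e : WithConv (C →ₗ[K] K), (∀ x ∈ D, (e * e) x = e x) ∧ e γ = 1 ∧
      ∀ d ∈ D, IsGroupLikeElem K d → d ≠ γ → e d = 0 := by
  classical
  haveI : IsArtinianRing (WithConv (C →ₗ[K] K) ⧸ ann D hD) := IsArtinianRing.of_finite K _
  have hev : ∀ d ∈ D, IsGroupLikeElem K d → ∃ φ : (WithConv (C →ₗ[K] K) ⧸ ann D hD) →ₐ[K] K,
      ∀ f, φ (Ideal.Quotient.mk _ f) = f d := fun d hdD hd =>
    ⟨Ideal.Quotient.liftₐ _ (AlgHom.ofLinearMap
      { toFun := fun f => f d
        map_add' := fun _ _ => rfl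
        map_smul' := fun _ _ => rfl }
      (one_grp hd) (fun f g => conv_grp f g hd)) (fun f hf => hf d hdD), fun f => rfl⟩
  obtain ⟨φ, hφ⟩ := hev γ hγD hγ
  let P : PrimeSpectrum (WithConv (C →ₗ[K] K) ⧸ ann D hD) := ⟨RingHom.ker φ, RingHom.ker_isPrime _⟩
  obtain ⟨e₀, he₀, hS⟩ := PrimeSpectrum.exists_idempotent_basicOpen_eq_of_isClopen
    (isClopen_discrete ({P} : Set (PrimeSpectrum (WithConv (C →ₗ[K] K) ⧸ ann D hD))))
  obtain ⟨e, rfl⟩ := Ideal.Quotient.mk_surjective e₀
  have hval : ∀ d ∈ D, IsGroupLikeElem K d → (e d = 0 ∨ e d = 1) ∧ (e d ≠ 0 ↔ d = γ) := by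
    intro d hdD hd
    obtain ⟨φ', hφ'⟩ := hev d hdD hd
    have h1 : IsIdempotentElem (φ' (Ideal.Quotient.mk _ e)) := he₀.map φ'
    rw [hφ'] at h1
    refine ⟨IsIdempotentElem.iff_eq_zero_or_one.mp h1, ?_⟩
    let P' : PrimeSpectrum (WithConv (C →ₗ[K] K) ⧸ ann D hD) := ⟨RingHom.ker φ', RingHom.ker_isPrime _⟩
    have h2 : P' ∈ ({P} : Set _) ↔ e d ≠ 0 := by
      rw [hS]
      show ¬ φ' (Ideal.Quotient.mk _ e) = 0 ↔ _
      rw [hφ']
    rw [← h2, Set.mem_singleton_iff]
    constructor
    · intro hPP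
      by_contra hne
      obtain ⟨f, hf⟩ : ∃ f : C →ₗ[K] K, f (d - γ) ≠ 0 := by
        by_contra! hall
        exact sub_ne_zero.mpr hne ((Module.forall_dual_apply_eq_zero_iff K _).mp hall)
      let g : WithConv (C →ₗ[K] K) := toConv f - f γ • 1
      have hgval : ∀ d' : C, IsGroupLikeElem K d' → g d' = f d' - f γ := fun d' hd' => by
        show f d' - f γ • (1 : WithConv (C →ₗ[K] K)) d' = _
        rw [one_grp hd', smul_eq_mul, _root_.mul_one]
      have hg : Ideal.Quotient.mk (ann D hD) g ∈ RingHom.ker φ := by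
        rw [RingHom.mem_ker, hφ, hgval γ hγ, sub_self]
      rw [show RingHom.ker φ = RingHom.ker φ' from (congrArg PrimeSpectrum.asIdeal hPP).symm,
        RingHom.mem_ker, hφ', hgval d hd] at hg
      exact hf (by rw [map_sub, hg])
    · rintro rfl
      refine PrimeSpectrum.ext ?_
      show RingHom.ker φ' = RingHom.ker φ
      rw [show φ' = φ from AlgHom.ext fun a => by
        obtain ⟨f, rfl⟩ := Ideal.Quotient.mk_surjective a; rw [hφ, hφ']]
  refine ⟨e, ?_, ((hval γ hγD hγ).1.resolve_left ((hval γ hγD hγ).2.mpr rfl)), fun d hdD hd hne => ?_⟩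
  · rw [← mk_eq_iff D hD, map_mul]; exact he₀
  · by_contra h; exact hne ((hval d hdD hd).2.mp h)

/-- The idempotent functional separating a grouplike element. -/
theorem exists_e {γ : C} (hγ : IsGroupLikeElem K γ) :
    ∃ e : WithConv (C →ₗ[K] K), e * e = e ∧ e γ = 1 ∧ ∀ d, IsGroupLikeElem K d → d ≠ γ → e d = 0 := by
  classical
  choose D hDf hDs hDc using fun x : C => exists_subC (K := K) {x, γ}
  have hxD : ∀ x, x ∈ D x := fun x => hDs x (by simp)
  have hγD : ∀ x, γ ∈ D x := fun x => hDs x (by simp)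
  choose e he1 he2 he3 using fun x => (haveI := hDf x; exists_idem (D x) (hDc x) (hγD x) hγ)
  have compat : ∀ (D' : Submodule K C) [Module.Finite K D'] (hD' : SubC D') (_ : γ ∈ D') (e' : WithConv (C →ₗ[K] K))
      (_ : ∀ x ∈ D', (e' * e') x = e' x) (_ : e' γ = 1) (_ : ∀ d ∈ D', IsGroupLikeElem K d → d ≠ γ → e' d = 0),
      ∀ x ∈ D', e' x = e x x := by
    intro D' hf' hD' hγ' e' h1 h2 h3 x hx
    haveI := hDf x
    obtain ⟨D'', hf'', hD'', hle, hsub⟩ := subC_le (K := K) (D := D' ⊔ D x) {γ}
    haveI := hf''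
    obtain ⟨e'', k1, k2, k3⟩ := exists_idem D'' hD'' (hsub (by simp)) hγ
    have key : ∀ (E : Submodule K C) [Module.Finite K E] (hE : SubC E) (_ : E ≤ D'') (f : WithConv (C →ₗ[K] K))
        (_ : ∀ x ∈ E, (f * f) x = f x) (_ : f γ = 1) (_ : ∀ d ∈ E, IsGroupLikeElem K d → d ≠ γ → f d = 0),
        ∀ x ∈ E, f x = e'' x := by
      intro E _ hE hEle f f1 f2 f3
      refine agree E hE f1 (fun z hz => k1 z (hEle hz)) fun d hd hd' => ?_
      by_cases hdγ : d = γ
      · subst hdγ; rw [f2, k2]
      · rw [f3 d hd hd' hdγ, k3 d (hEle hd) hd' hdγ]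
    rw [key D' hD' (le_sup_left.trans hle) e' h1 h2 h3 x hx,
      key (D x) (hDc x) (le_sup_right.trans hle) (e x) (he1 x) (he2 x) (he3 x) x (hxD x)]
  have hadd : ∀ x y, e (x + y) (x + y) = e x x + e y y := by
    intro x y
    obtain ⟨D', hf', hD', hsub⟩ : ∃ D' : Submodule K C, Module.Finite K D' ∧ SubC D' ∧ (↑({x, y, γ} : Finset C) : Set C) ⊆ D' := by
      obtain ⟨D', a, b, c⟩ := exists_subC (K := K) ({x, y, γ} : Finset C)
      exact ⟨D', a, c, b⟩
    haveI := hf'
    have hx : x ∈ D' := hsub (by simp)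
    have hy : y ∈ D' := hsub (by simp)
    obtain ⟨e', h1, h2, h3⟩ := exists_idem D' hD' (hsub (by simp)) hγ
    have hc := compat D' hD' (hsub (by simp)) e' h1 h2 h3
    rw [← hc _ (add_mem hx hy), ← hc _ hx, ← hc _ hy, map_add]
  have hsmul : ∀ (c : K) x, e (c • x) (c • x) = c • e x x := by
    intro c x
    haveI := hDf x
    rw [← compat (D x) (hDc x) (hγD x) (e x) (he1 x) (he2 x) (he3 x) _ (Submodule.smul_mem _ c (hxD x)), map_smul]
  let E : WithConv (C →ₗ[K] K) := toConv { toFun := fun x => e x x, map_add' := hadd, map_smul' := hsmul }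
  refine ⟨E, ?_, he2 γ, fun d hd hne => he3 d d (hxD d) hd hne⟩
  refine WithConv.ofConv_injective (LinearMap.ext fun x => ?_)
  haveI := hDf x
  have hEq : Ideal.Quotient.mk (ann (D x) (hDc x)) E = Ideal.Quotient.mk (ann (D x) (hDc x)) (e x) :=
    (mk_eq_iff _ _).mpr fun z hz =>
      (compat (D x) (hDc x) (hγD x) (e x) (he1 x) (he2 x) (he3 x) z hz).symm
  have h2 : Ideal.Quotient.mk (ann (D x) (hDc x)) (E * E) = Ideal.Quotient.mk (ann (D x) (hDc x)) E := by
    rw [map_mul, hEq, ← map_mul, mk_eq_iff]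
    exact he1 x
  exact (mk_eq_iff _ _).mp h2 x (hxD x)

end RedCentre19
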