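import Groth.Agent.RedCentre19.Piece
import Groth.Agent.S14691
import Groth.Agent.GrpSchLib.Coincidence
import Groth.Agent.GrpSchLib.AntiAffineBC
import Groth.Agent.GrpSchLib.AntiAffineHom
import Groth.Agent.MultDefLib.Transp
import Groth.Agent.MultDefLib.Mult
import Groth.Agent.MultLift19.Bridge

/-!
# The reductive centre of an affine group over a field
-/

set_option autoImplicit false
set_option linter.style.haveILetI false

universe u

open CategoryTheory CategoryTheory.Limits MonoidalCategory CartesianMonoidalCategory MonObj GrpObj AlgebraicGeometry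

noncomputable section

namespace RedCentre19

open Groth.Agent.GrpSchLib.AffineHopf (sp spMap)
open Groth.Agent.MultDefLib (overIso)

/-- A morphism into an affine scheme factors through a closed subscheme when it kills its ideal. -/
theorem exists_factor_affine {Y : Scheme.{u}} {A B : Type u} [CommRing A] [CommRing B] (q : A →+* B)
    (hq : Function.Surjective q) (a : Y ⟶ Spec (CommRingCat.of A))
    (h : ∀ x, q x = 0 → a.appTop ((Scheme.ΓSpecIso (CommRingCat.of A)).inv x) = 0) :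
    ∃ b : Y ⟶ Spec (CommRingCat.of B), b ≫ Spec.map (CommRingCat.ofHom q) = a := by
  let α : CommRingCat.of A ⟶ Γ(Y, ⊤) := (Scheme.ΓSpecIso (CommRingCat.of A)).inv ≫ a.appTop
  let β : B →+* Γ(Y, ⊤) := q.liftOfRightInverse _ (Function.rightInverse_surjInv hq) ⟨α.hom, fun x hx => h x hx⟩
  have hβ : CommRingCat.ofHom q ≫ CommRingCat.ofHom β = α :=
    CommRingCat.hom_ext (q.liftOfRightInverse_comp _ (Function.rightInverse_surjInv hq) ⟨α.hom, fun x hx => h x hx⟩)
  refine ⟨Y.toSpecΓ ≫ Spec.map (CommRingCat.ofHom β), ?_⟩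
  rw [Category.assoc, ← Spec.map_comp, hβ, Spec.map_comp, ← Category.assoc, ← Scheme.toSpecΓ_naturality,
    Category.assoc, ← SpecMap_ΓSpecIso_hom, ← Spec.map_comp, Iso.inv_hom_id, Spec.map_id, Category.comp_id]

/-- A global function which vanishes on a flat jointly surjective family vanishes. -/
theorem eq_zero_of_flat_family {Y : Scheme.{u}} {κ : Type u} {F : κ → Scheme.{u}} (p : ∀ i, F i ⟶ Y)
    [∀ i, Flat (p i)] (hp : ∀ y, ∃ i z, (p i).base z = y) (s : Γ(Y, ⊤)) (h : ∀ i, (p i).appTop s = 0) : s = 0 := by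
  haveI : Flat (Sigma.desc p) := IsZariskiLocalAtSource.sigmaDesc inferInstance
  haveI : Surjective (Sigma.desc p) := ⟨fun y => by
    obtain ⟨i, z, rfl⟩ := hp y
    exact ⟨(Sigma.ι F i).base z, by rw [← Scheme.Hom.comp_apply, Sigma.ι_desc]⟩⟩
  haveI := Flat.epi_of_flat_of_surjective (Sigma.desc p)
  refine Groth.Agent.GrpSchLib.AntiAffine.appTop_injective_of_epi (Sigma.desc p) ?_
  rw [map_zero]
  refine Scheme.zero_of_zero_cover _ (sigmaOpenCover F) fun i => ?_
  show (Sigma.ι F i).appTop _ = 0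
  rw [← ConcreteCategory.comp_apply, ← Scheme.Hom.comp_appTop, Sigma.ι_desc]
  exact h i

variable {k : Type u} [Field k]

/-- Homomorphisms of groups of multiplicative type over any base kill `J`. -/
theorem kill_hom {A : Type u} [CommRing A] [HopfAlgebra k A] [Coalgebra.IsCocomm k A] {S' : Scheme.{u}}
    (f : S' ⟶ Spec (CommRingCat.of k)) {H : Over S'} [GrpObj H] (hH : SGA3x.IsMultTypeFT H)
    (v : H ⟶ Red.bc f (sp k A)) [IsMonHom v] {x : A} (hx : x ∈ J k A) :
    (v.left ≫ pullback.fst _ _).appTop ((Scheme.ΓSpecIso (CommRingCat.of A)).inv x) = 0 := by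
  classical
  obtain ⟨S'', f'', hflat, hsurj, -, hloc⟩ := hH
  choose U hU M iM hM hiso using hloc
  choose B hB hsB hBU using fun s : S'' => exists_isAffineOpen_mem_and_subset (hU s)
  let g : ∀ s, Spec Γ(S'', B s) ⟶ S' := fun s => (hB s).fromSpec ≫ f''
  have hjs : ∀ y : H.left, ∃ s z, (pullback.fst H.hom (g s)).base z = y := by
    intro y
    obtain ⟨s, hs⟩ := hsurj.surj (H.hom.base y)
    obtain ⟨w, hw⟩ : s ∈ Set.range (hB s).fromSpec := (hB s).range_fromSpec ▸ hsB s
    obtain ⟨z, hz, -⟩ := Scheme.Pullback.exists_preimage_pullback (f := H.hom) (g := g s) y w (by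
      rw [← hs, show (g s).base w = f''.base ((hB s).fromSpec.base w) from rfl]
      exact congrArg _ hw.symm)
    exact ⟨s, z, hz⟩
  haveI : ∀ s, Flat (pullback.fst H.hom (g s)) := fun s => inferInstance
  refine eq_zero_of_flat_family (Y := H.left) (κ := ↥S'') (F := fun s => pullback H.hom (g s))
    (fun s => pullback.fst H.hom (g s)) hjs _ fun s => ?_
  letI : Algebra k Γ(S'', B s) := (Spec.preimage (g s ≫ f)).hom.toAlgebra
  have hgf : Spec.map (CommRingCat.ofHom (algebraMap k Γ(S'', B s))) = g s ≫ f := Spec.map_preimage _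
  let t := (hB s).isoSpec.inv ≫ S''.homOfLE (hBU s)
  have ht : t ≫ (U s).ι ≫ f'' = g s := by simp [t, g, IsAffineOpen.isoSpec_inv_ι_assoc]
  letI := iM s
  obtain ⟨e₀⟩ := hiso s
  obtain ⟨e₁⟩ := Groth.Agent.GrpSchLib.MultTypeBC.bc_congr ht H
  obtain ⟨e₂⟩ := Groth.Agent.GrpSchLib.MultTypeBC.bc_bc t ((U s).ι ≫ f'') H
  obtain ⟨e₃⟩ := Groth.Agent.GrpSchLib.MultTypeBC.bc_iso t e₀
  obtain ⟨e₄⟩ := Groth.Agent.GrpSchLib.MultTypeBC.bc_DS t (M s)
  obtain ⟨e₅⟩ := Groth.Agent.GrpSchLib.AffineHopf.nonempty_DS_iso Γ(S'', B s) (M s)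
  let e := overIso (e₅ ≪≫ e₄.symm ≪≫ e₃.symm ≪≫ e₂ ≪≫ e₁)
  haveI : IsMonHom e.hom := (e₅ ≪≫ e₄.symm ≪≫ e₃.symm ≪≫ e₂ ≪≫ e₁).hom.hom.isMonHom_hom
  let φ₁ := e.hom ≫ (Over.pullback (g s)).map v
  haveI : IsMonHom φ₁ := inferInstanceAs (IsMonHom (e.hom ≫ (Over.pullback (g s)).map v))
  obtain ⟨φ₀, hφ₀, hφ₀'⟩ := exists_flatten f (g s) φ₁
  have key : ∀ {t' : Spec (CommRingCat.of Γ(S'', B s)) ⟶ Spec (CommRingCat.of k)} (_ : t' = g s ≫ f)
      (Z : Over (Spec (CommRingCat.of Γ(S'', B s)))) [GrpObj Z] (ψ : Z ⟶ Red.bc (g s ≫ f) (sp k A)) [IsMonHom ψ],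
      ∃ ψ' : Z ⟶ Red.bc t' (sp k A), IsMonHom ψ' ∧ ψ'.left ≫ pullback.fst _ _ = ψ.left ≫ pullback.fst _ _ := by
    rintro t' rfl Z _ ψ hψ
    exact ⟨ψ, hψ, rfl⟩
  haveI := hφ₀
  obtain ⟨ψ, hψ, hψ'⟩ := key hgf _ φ₀
  haveI := hψ
  have h := piece (Multiplicative (M s)) ψ hx
  rw [hψ', hφ₀'] at h
  have e' : IsIso e.hom.left := ((Over.forget _).mapIso e).isIso_hom
  have hcomm : ((Over.pullback (g s)).map v).left ≫ pullback.fst _ _ = pullback.fst H.hom (g s) ≫ v.left :=
    pullback.lift_fst _ _ _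
  have h2 : φ₁.left ≫ pullback.fst _ _ ≫ pullback.fst _ _ =
      e.hom.left ≫ pullback.fst H.hom (g s) ≫ v.left ≫ pullback.fst _ _ := by
    rw [Over.comp_left, Category.assoc, reassoc_of% hcomm]
  rw [h2, Scheme.Hom.comp_appTop, ConcreteCategory.comp_apply] at h
  have hinj : Function.Injective e.hom.left.appTop :=
    Groth.Agent.GrpSchLib.AntiAffine.appTop_injective_of_epi e.hom.left
  have h3 := hinj (h.trans (map_zero _).symm)
  rw [Scheme.Hom.comp_appTop, ConcreteCategory.comp_apply] at h3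
  exact h3

/-- The centre of a group over a field. -/
theorem exists_centre (G : Over (Spec (CommRingCat.of k))) [GrpObj G] :
    ∃ (C : Over (Spec (CommRingCat.of k))) (_ : GrpObj C) (c : C ⟶ G), IsMonHom c ∧ Mono c ∧ IsClosedImmersion c.left ∧
      ∀ (X : Over (Spec (CommRingCat.of k))) (a : X ⟶ G), (∃ y : X ⟶ C, y ≫ c = a) ↔
        ∀ (T : Over (Spec (CommRingCat.of k))) (t : T ⟶ X) (g : T ⟶ G), (t ≫ a) * g = g * (t ≫ a) := by
  haveI := Groth.Agent.GrpSchLib.AntiAffine.isSeparated_grp G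
  obtain ⟨C, c, hc, hC⟩ := Groth.Agent.GrpSchLib.exists_coincidence_field (W := G) (X := G)
    (snd G G * fst G G) (fst G G * snd G G)
  have hQ : ∀ (X : Over (Spec (CommRingCat.of k))) (a : X ⟶ G), (∃ y : X ⟶ C, y ≫ c = a) ↔
      ∀ (T : Over (Spec (CommRingCat.of k))) (t : T ⟶ X) (g : T ⟶ G), (t ≫ a) * g = g * (t ≫ a) := by
    intro X a
    refine (hC X a).trans ⟨fun h T t g => ?_, fun h => ?_⟩
    · have := congrArg (lift g t ≫ ·) h
      simpa [MonObj.comp_mul, lift_whiskerLeft_assoc] using this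
    · simpa [MonObj.comp_mul] using h (G ⊗ X) (snd G X) (fst G X)
  haveI : Mono c := by
    haveI : Mono ((Over.forget _).map c) := inferInstanceAs (Mono c.left)
    exact (Over.forget _).mono_of_mono_map ‹_›
  obtain ⟨str, hstr⟩ := Groth.Agent.MultDefLib.exists_grpObj_of_locus c _ hQ
    (fun X T t g => by rw [MonObj.comp_one, _root_.one_mul, _root_.mul_one])
    (fun X a b ha hb T t g => by
      rw [MonObj.comp_mul, _root_.mul_assoc, hb T t g, ← _root_.mul_assoc, ha T t g, _root_.mul_assoc])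
    (fun X a ha T t g => by
      rw [GrpObj.comp_inv]
      exact ((show Commute (t ≫ a) g from ha T t g).inv_left).eq)
  exact ⟨C, str, c, hstr, ‹_›, hc, hQ⟩

set_option maxHeartbeats 1000000 in
/-- The reductive centre. -/
theorem exists_reductiveCentre (G : Over (Spec (CommRingCat.of k))) [GrpObj G] [IsAffine G.left]
    [LocallyOfFiniteType G.hom] :
    ∃ (Z : Over (Spec (CommRingCat.of k))) (_ : GrpObj Z) (z : Z ⟶ G), IsMonHom z ∧ Mono z ∧ SGA3x.IsMultTypeFT Z ∧
      (∀ (X : Over (Spec (CommRingCat.of k))) (x : X ⟶ Z) (g : X ⟶ G), (x ≫ z) * g = g * (x ≫ z)) ∧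
      ∀ (S' : Scheme.{u}) (f : S' ⟶ (Spec (CommRingCat.of k))) (H : Over S') [GrpObj H] (v : H ⟶ Red.bc f G) [IsMonHom v],
        SGA3x.IsMultTypeFT H →
        (∀ (X : Over S') (x : X ⟶ H) (g : X ⟶ Red.bc f G), (x ≫ v) * g = g * (x ≫ v)) →
        ∃ w : H ⟶ Red.bc f Z, w ≫ (Over.pullback f).map z = v := by
  classical
  obtain ⟨C, _, c, _, _, _, hC⟩ := exists_centre G
  haveI : IsAffineHom c.left := inferInstance
  haveI : IsAffine C.left := isAffine_of_isAffineHom c.left
  haveI : LocallyOfFiniteType C.hom := by rw [← Over.w c]; infer_instance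
  have hcomm : IsCommMonObj C := by
    constructor
    have key : ∀ (X : Over (Spec (CommRingCat.of k))) (a b : X ⟶ C), a * b = b * a := fun X a b => by
      rw [← cancel_mono c, MonObj.mul_comp, MonObj.mul_comp]
      simpa using (hC X (a ≫ c)).mp ⟨a, rfl⟩ X (𝟙 X) (b ≫ c)
    have e := key (C ⊗ C) (snd C C) (fst C C)
    rw [Hom.mul_def, Hom.mul_def, lift_fst_snd, Category.id_comp] at e
    rwa [show (β_ C C).hom = lift (snd C C) (fst C C) from CartesianMonoidalCategory.hom_ext _ _ (by simp) (by simp)]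
  obtain ⟨A, _, _, ⟨eA⟩⟩ := Groth.Agent.GrpSchLib.AffineHopf.exists_hopf C
  haveI : IsMonHom (overIso eA).hom := eA.hom.hom.isMonHom_hom
  haveI : IsMonHom (overIso eA).inv := eA.inv.hom.isMonHom_hom
  haveI : Coalgebra.IsCocomm k A := Groth.Agent.S14691.isCocomm_of_iso (overIso eA).hom
  haveI hAft : Algebra.FiniteType k A := by
    have h1 : LocallyOfFiniteType (sp k A).hom := by
      rw [← Over.w (overIso eA).hom]
      haveI : IsIso (overIso eA).hom.left := ((Over.forget _).mapIso (overIso eA)).isIso_hom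
      infer_instance
    exact RingHom.finiteType_algebraMap.mp
      ((HasRingHomProperty.Spec_iff (P := @LocallyOfFiniteType) (φ := CommRingCat.ofHom (algebraMap k A))).mp h1)
  let q : A →ₐc[k] A ⧸ J k A := Bialgebra.Quotient.mkBialgHom (J k A)
  let m : sp k (A ⧸ J k A) ⟶ C := spMap (q : A →ₐ[k] A ⧸ J k A) ≫ (overIso eA).hom
  haveI : IsClosedImmersion (spMap (q : A →ₐ[k] A ⧸ J k A)).left :=
    IsClosedImmersion.spec_of_surjective _ Ideal.Quotient.mk_surjective
  have hmc : IsClosedImmersion (m ≫ c).left := by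
    haveI : IsIso (overIso eA).hom.left := ((Over.forget _).mapIso (overIso eA)).isIso_hom
    simp only [m, Over.comp_left]
    infer_instance
  have hmono : Mono (m ≫ c) := by
    haveI : Mono ((Over.forget _).map (m ≫ c)) := inferInstanceAs (Mono (m ≫ c).left)
    exact (Over.forget _).mono_of_mono_map ‹_›
  have hmult : SGA3b.IsMultType k (A ⧸ J k A) := by
    obtain ⟨K', iK, iA, hff, hd⟩ := (isMultTypeConst (k := k) (A := A))
    refine Groth.Agent.MultTypeLib.isMultType_of_flatCover (fun _ : PUnit.{u + 1} => K') (fun p hp => ?_) fun _ => hd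
    obtain ⟨P, hP⟩ := PrimeSpectrum.comap_surjective_of_faithfullyFlat (A := k) (B := K') ⟨p, hp⟩
    exact ⟨PUnit.unit, P.asIdeal, P.isPrime, congrArg PrimeSpectrum.asIdeal hP⟩
  haveI : Algebra.FiniteType k (A ⧸ J k A) :=
    Algebra.FiniteType.of_surjective (Ideal.Quotient.mkₐ k _) Ideal.Quotient.mk_surjective
  refine ⟨sp k (A ⧸ J k A), inferInstance, m ≫ c, inferInstance, hmono,
    Groth.Agent.MultLift19.multTypeFT_sp hmult inferInstance, fun X x g => ?_, ?_⟩
  · simpa using (hC X (x ≫ m ≫ c)).mp ⟨x ≫ m, by simp⟩ X (𝟙 X) g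
  intro S' f H _ v _ hH hcen
  let X' : Over (Spec (CommRingCat.of k)) := (Over.map f).obj H
  let a : X' ⟶ G := Groth.Agent.DSPtsLib.theta f v
  obtain ⟨y, hy⟩ := (hC X' a).mpr fun T t g => by
    let T' : Over S' := Over.mk (t.left ≫ H.hom)
    let t' : T' ⟶ H := Over.homMk t.left rfl
    let i : (Over.map f).obj T' ⟶ T := Over.homMk (𝟙 _) (by
      show 𝟙 _ ≫ T.hom = (t.left ≫ H.hom) ≫ f
      rw [Category.id_comp, ← Over.w t, Category.assoc]; rfl)
    haveI : IsIso i.left := inferInstanceAs (IsIso (𝟙 _))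
    haveI : IsIso ((Over.forget _).map i) := ‹IsIso i.left›
    haveI : IsIso i := isIso_of_reflects_iso i (Over.forget _)
    obtain ⟨g', hg'⟩ := (Groth.Agent.DSPtsLib.theta_bijective (H := G) (Y := T') f).2 (i ≫ g)
    have h := congrArg (Groth.Agent.DSPtsLib.theta f) (hcen T' t' g')
    rw [Groth.Agent.DSPtsLib.theta_mul, Groth.Agent.DSPtsLib.theta_mul, Groth.Agent.DSPtsLib.theta_comp, hg'] at h
    have hit : (Over.map f).map t' = i ≫ t := Over.OverMorphism.ext (Category.id_comp _).symm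
    rw [hit, Category.assoc, ← MonObj.comp_mul, ← MonObj.comp_mul] at h
    exact (cancel_epi i).mp h
  obtain ⟨v', hv'⟩ := (Groth.Agent.DSPtsLib.theta_bijective (H := C) (Y := H) f).2 y
  have hv'c : v' ≫ (Over.pullback f).map c = v := by
    apply (Groth.Agent.DSPtsLib.theta_bijective f).1
    refine Eq.trans ?_ hy
    refine Over.OverMorphism.ext ?_
    rw [Groth.Agent.DSPtsLib.theta_left, ← hv', Over.comp_left, Over.comp_left, Groth.Agent.DSPtsLib.theta_left,
      Category.assoc, Category.assoc]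
    exact congrArg (v'.left ≫ ·) (pullback.lift_fst _ _ _)
  haveI : Mono ((Over.pullback f).map c) := inferInstance
  haveI : IsMonHom v' := by
    have h : IsMonHom (v' ≫ (Over.pullback f).map c) := by rw [hv'c]; infer_instance
    refine ⟨?_, ?_⟩
    · rw [← cancel_mono ((Over.pullback f).map c), Category.assoc]
      rw [h.one_hom, IsMonHom.one_hom]
    · rw [← cancel_mono ((Over.pullback f).map c), Category.assoc, Category.assoc, h.mul_hom, IsMonHom.mul_hom,
        MonoidalCategory.tensorHom_comp_tensorHom_assoc]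
  let v'' := v' ≫ (Over.pullback f).map (overIso eA).inv
  obtain ⟨b, hb⟩ : ∃ b : H.left ⟶ (sp k (A ⧸ J k A)).left,
      b ≫ (spMap (q : A →ₐ[k] A ⧸ J k A)).left = v''.left ≫ pullback.fst _ _ :=
    exists_factor_affine (q : A →+* A ⧸ J k A) Ideal.Quotient.mk_surjective
      (v''.left ≫ pullback.fst _ _) fun x hx => kill_hom f hH v'' (Ideal.Quotient.eq_zero_iff_mem.mp hx)
  have hbhom : b ≫ (sp k (A ⧸ J k A)).hom = H.hom ≫ f := by
    have h1 : (spMap (q : A →ₐ[k] A ⧸ J k A)).left ≫ (sp k A).hom = (sp k (A ⧸ J k A)).hom := Over.w _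
    rw [← h1, ← Category.assoc, hb, Category.assoc, pullback.condition]
    exact Over.w_assoc v'' f
  refine ⟨Over.homMk (pullback.lift b H.hom hbhom) (pullback.lift_snd _ _ _), ?_⟩
  rw [← hv'c]
  apply (Groth.Agent.DSPtsLib.theta_bijective f).1
  refine Over.OverMorphism.ext ?_
  rw [Groth.Agent.DSPtsLib.theta_left, Groth.Agent.DSPtsLib.theta_left, Over.comp_left, Over.comp_left, Category.assoc,
    Category.assoc]
  have p1 : ∀ {X Y : Over (Spec (CommRingCat.of k))} (φ : X ⟶ Y),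
      ((Over.pullback f).map φ).left ≫ pullback.fst _ _ = pullback.fst _ _ ≫ φ.left := fun φ => pullback.lift_fst _ _ _
  rw [p1]
  simp only [Category.assoc]
  rw [p1]
  show pullback.lift b H.hom hbhom ≫ _ = _
  rw [pullback.lift_fst_assoc]
  simp only [m, Over.comp_left]
  rw [reassoc_of% hb]
  simp only [v'', Over.comp_left, Category.assoc]
  rw [reassoc_of% p1, ← Category.assoc ((overIso eA).inv.left), ← Over.comp_left, Iso.inv_hom_id, Over.id_left,
    Category.id_comp]

end RedCentre19
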