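import Groth.Agent.RedCentre19.Main
import Groth.Agent.GrpSchLib.HomUnitLocus
import Groth.Agent.GrpSchLib.MultTypeBC
import Groth.Agent.SecGerm.Irred
import Mathlib.GroupTheory.Nilpotent
import Mathlib.AlgebraicGeometry.Morphisms.Flat

/-!
# Subgroups of multiplicative type of connected nilpotent groups are central

`Zs j` is the functorial upper central series; a family of homomorphisms modulo `Zs i` from a group
of multiplicative type, parametrised by a connected scheme and trivial at a point, lies in `Zs i`.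
-/

set_option autoImplicit false
set_option linter.style.haveILetI false

universe u

open CategoryTheory CategoryTheory.Limits MonoidalCategory CartesianMonoidalCategory MonObj GrpObj AlgebraicGeometry
open scoped commutatorElement

noncomputable section

namespace RedCentre19

section Series

variable {S : Scheme.{u}} {G : Over S} [GrpObj G]

variable (G) in
/-- The functorial upper central series. -/
def Zs : ℕ → ∀ {X : Over S}, (X ⟶ G) → Prop
  | 0, _, g => g = 1
  | j + 1, _, g => ∀ (X' : Over S) (t : X' ⟶ _) (h : X' ⟶ G), Zs j ⁅t ≫ g, h⁆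

theorem comp_comm {X X' : Over S} (t : X' ⟶ X) (a b : X ⟶ G) : t ≫ ⁅a, b⁆ = ⁅t ≫ a, t ≫ b⁆ := by
  simp only [commutatorElement_def, MonObj.comp_mul, GrpObj.comp_inv]

theorem zs_comp : ∀ (j : ℕ) {X X' : Over S} (t : X' ⟶ X) {g : X ⟶ G}, Zs G j g → Zs G j (t ≫ g)
  | 0, _, _, t, g, h => by rw [show g = 1 from h, MonObj.comp_one]; rfl
  | j + 1, _, _, t, g, h => fun X'' t' k => by rw [← Category.assoc]; exact h X'' (t' ≫ t) k

/-- The series consists of normal subgroups. -/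
theorem zs_group : ∀ (j : ℕ) {X : Over S}, Zs G j (1 : X ⟶ G) ∧ (∀ a b : X ⟶ G, Zs G j a → Zs G j b → Zs G j (a * b)) ∧
    (∀ a : X ⟶ G, Zs G j a → Zs G j a⁻¹) ∧ ∀ a c : X ⟶ G, Zs G j a → Zs G j (c * a * c⁻¹)
  | 0, X => ⟨rfl, fun a b ha hb => by rw [show a = 1 from ha, show b = 1 from hb, _root_.one_mul]; rfl,
      fun a ha => by rw [show a = 1 from ha, inv_one]; rfl,
      fun a c ha => by rw [show a = 1 from ha, _root_.mul_one, mul_inv_cancel]; rfl⟩
  | j + 1, X => by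
    refine ⟨fun X' t h => ?_, fun a b ha hb X' t h => ?_, fun a ha X' t h => ?_, fun a c ha X' t h => ?_⟩
    · rw [MonObj.comp_one, commutatorElement_one_left]; exact (zs_group j).1
    · rw [MonObj.comp_mul, show ⁅(t ≫ a) * (t ≫ b), h⁆ = (t ≫ a) * ⁅t ≫ b, h⁆ * (t ≫ a)⁻¹ * ⁅t ≫ a, h⁆ by
        simp only [commutatorElement_def]; group]
      exact (zs_group j).2.1 _ _ ((zs_group j).2.2.2 _ _ (hb X' t h)) (ha X' t h)
    · rw [GrpObj.comp_inv, show ⁅(t ≫ a)⁻¹, h⁆ = (t ≫ a)⁻¹ * ⁅t ≫ a, h⁆⁻¹ * ((t ≫ a)⁻¹)⁻¹ by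
        simp only [commutatorElement_def]; group]
      exact (zs_group j).2.2.2 _ _ ((zs_group j).2.2.1 _ (ha X' t h))
    · rw [MonObj.comp_mul, MonObj.comp_mul, GrpObj.comp_inv, show ⁅(t ≫ c) * (t ≫ a) * (t ≫ c)⁻¹, h⁆ =
          (t ≫ c) * ⁅t ≫ a, (t ≫ c)⁻¹ * h * (t ≫ c)⁆ * (t ≫ c)⁻¹ by simp only [commutatorElement_def]; group]
      exact (zs_group j).2.2.2 _ _ (ha X' t _)

/-- Nilpotence makes the series exhaustive. -/
theorem zs_top {n : ℕ} (hn : ∀ X : Over S, (⊤ : Subgroup (X ⟶ G)).lowerCentralSeries n = ⊥) {X : Over S} (g : X ⟶ G) :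
    Zs G n g := by
  have key : ∀ m i, i + m = n → ∀ {X : Over S} (g : X ⟶ G), g ∈ (⊤ : Subgroup (X ⟶ G)).lowerCentralSeries i → Zs G m g := by
    intro m
    induction m with
    | zero =>
      intro i hi X g hg
      obtain rfl : i = n := by omega
      rw [hn] at hg
      exact Subgroup.mem_bot.mp hg
    | succ m ih =>
      intro i hi X g hg X' t h
      have hmap : ∀ i, ((⊤ : Subgroup (X ⟶ G)).lowerCentralSeries i).map
          (MonoidHom.mk' (fun a : X ⟶ G => t ≫ a) fun a b => MonObj.comp_mul t a b) ≤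
          (⊤ : Subgroup (X' ⟶ G)).lowerCentralSeries i := by
        intro i
        induction i with
        | zero => exact le_top
        | succ i ih' =>
          rw [Subgroup.lowerCentralSeries_succ, Subgroup.map_commutator, Subgroup.lowerCentralSeries_succ]
          exact Subgroup.commutator_mono ih' le_top
      exact ih (i + 1) (by omega) _ (Subgroup.commutator_mem_commutator
        (hmap i (Subgroup.mem_map_of_mem _ hg)) (Subgroup.mem_top h))
  exact key n 0 (zero_add n) g (Subgroup.mem_top g)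

/-- Congruence modulo the series. -/
def Congr (j : ℕ) {X : Over S} (a b : X ⟶ G) : Prop := Zs G j (a * b⁻¹)

theorem zs_comm_right {i : ℕ} {X : Over S} (a : X ⟶ G) {v : X ⟶ G} (hv : Zs G (i + 1) v) : Zs G i ⁅a, v⁆ := by
  rw [show ⁅a, v⁆ = ⁅v, a⁆⁻¹ from (commutatorElement_inv v a).symm]
  refine (zs_group i).2.2.1 _ ?_
  simpa using hv X (𝟙 X) a

/-- The commutator with a fixed element is multiplicative modulo the series. -/
theorem comm_mul_left {i : ℕ} {X : Over S} {a b z h : X ⟶ G} (hz : Zs G (i + 1) z) (hb : Zs G (i + 1) ⁅b, h⁆) :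
    Congr i ⁅z * (a * b), h⁆ (⁅a, h⁆ * ⁅b, h⁆) := by
  show Zs G i _
  -- `[z(ab), h] = z [ab, h] z⁻¹ [z, h]` and `[ab, h] = a [b, h] a⁻¹ [a, h]`
  have hzh : Zs G i ⁅z, h⁆ := by simpa using hz X (𝟙 X) h
  have e : ⁅z * (a * b), h⁆ * (⁅a, h⁆ * ⁅b, h⁆)⁻¹ =
      ⁅z, a * ⁅b, h⁆ * a⁻¹ * ⁅a, h⁆⁆ * ((a * ⁅b, h⁆ * a⁻¹ * ⁅a, h⁆) * ⁅z, h⁆ * (a * ⁅b, h⁆ * a⁻¹ * ⁅a, h⁆)⁻¹) *
        (⁅a, ⁅b, h⁆⁆ * (⁅⁅b, h⁆, ⁅a, h⁆⁆)) := by
    simp only [commutatorElement_def]; group
  rw [e]
  refine (zs_group i).2.1 _ _ ((zs_group i).2.1 _ _ ?_ ((zs_group i).2.2.2 _ _ hzh))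
    ((zs_group i).2.1 _ _ (zs_comm_right a hb) ?_)
  · simpa using hz X (𝟙 X) _
  · simpa using hb X (𝟙 X) _

end Series

variable {k : Type u} [Field k] {G M : Over (Spec (CommRingCat.of k))} [GrpObj G] [GrpObj M]
  [LocallyOfFiniteType G.hom]

/-- Rigidity: a connected family of homomorphisms into the centre which is trivial at a point is trivial. -/
theorem rigid (hM : SGA3x.IsMultTypeFT M) (Y : Over (Spec (CommRingCat.of k))) [ConnectedSpace ↥Y.left]
    (y₀ : 𝟙_ (Over (Spec (CommRingCat.of k))) ⟶ Y) (u : Y ⊗ M ⟶ G) (hu : Zs G 1 u)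
    (hmul : ∀ (X : Over (Spec (CommRingCat.of k))) (y : X ⟶ Y) (x x' : X ⟶ M),
      lift y (x * x') ≫ u = (lift y x ≫ u) * (lift y x' ≫ u))
    (h0 : ∀ (X : Over (Spec (CommRingCat.of k))) (x : X ⟶ M), lift (toUnit X ≫ y₀) x ≫ u = 1) : u = 1 := by
  haveI := Groth.Agent.GrpSchLib.AntiAffine.isSeparated_grp G
  let f := Y.hom
  let ev : ∀ {W : Over Y.left}, (W ⟶ Red.bc f M) → ((Over.map f).obj W ⟶ G) := fun {W} a =>
    lift (Over.homMk W.hom rfl : (Over.map f).obj W ⟶ Y) (Groth.Agent.DSPtsLib.theta f a) ≫ u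
  obtain ⟨v, hv⟩ := (Groth.Agent.DSPtsLib.theta_bijective (H := G) (Y := Red.bc f M) f).2 (ev (𝟙 _))
  have hnat : ∀ {W : Over Y.left} (a : W ⟶ Red.bc f M), Groth.Agent.DSPtsLib.theta f (a ≫ v) = ev a := fun {W} a => by
    rw [Groth.Agent.DSPtsLib.theta_comp, hv]
    show (Over.map f).map a ≫ lift _ _ ≫ u = lift _ _ ≫ u
    rw [comp_lift_assoc, ← Groth.Agent.DSPtsLib.theta_comp, Category.comp_id]
    congr 2
    exact Over.OverMorphism.ext (Over.w a)
  haveI : IsMonHom v := Groth.Agent.GrpSchLib.RankOne.isMonHom_of_comp v fun W a b => by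
    apply (Groth.Agent.DSPtsLib.theta_bijective f).1
    rw [Groth.Agent.DSPtsLib.theta_mul, hnat, hnat, hnat]
    show lift _ (Groth.Agent.DSPtsLib.theta f (a * b)) ≫ u = _
    rw [Groth.Agent.DSPtsLib.theta_mul, hmul]
  haveI : LocallyOfFiniteType (Red.bc f G).hom :=
    inferInstanceAs (LocallyOfFiniteType (pullback.snd G.hom f))
  haveI : IsSeparated (Red.bc f G).hom := inferInstanceAs (IsSeparated (pullback.snd G.hom f))
  obtain ⟨U, hUc, hU, hTriv⟩ := Groth.Agent.GrpSchLib.HomUnitLocus.main (u := v)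
    (Groth.Agent.GrpSchLib.MultTypeBC.isMultTypeFT_bc f hM) (.inr inferInstance)
  let p : Y.left := (Scheme.SpecToEquivOfField k Y.left y₀.left).1
  have hsec : Y.left.fromSpecResidueField p = (Y.left.fromSpecResidueField p ≫ f) ≫ y₀.left := by
    obtain ⟨φ, hφ⟩ : ∃ φ : Y.left.residueField p ⟶ CommRingCat.of k,
        Spec.map φ ≫ Y.left.fromSpecResidueField p = y₀.left :=
      ⟨(Scheme.SpecToEquivOfField k Y.left y₀.left).2, (Scheme.SpecToEquivOfField k Y.left).symm_apply_apply y₀.left⟩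
    haveI : IsIso φ := by
      have h1 : Spec.map φ ≫ Y.left.fromSpecResidueField p ≫ f = 𝟙 (Spec (CommRingCat.of k)) := by
        rw [← Category.assoc, hφ]; exact Over.w y₀
      obtain ⟨α, hα⟩ : ∃ α : CommRingCat.of k ⟶ Y.left.residueField p, Spec.map α = Y.left.fromSpecResidueField p ≫ f :=
        ⟨_, Spec.map_preimage _⟩
      rw [← hα, ← Spec.map_comp, ← Spec.map_id] at h1
      have h2 := Spec.map_injective h1
      exact (ConcreteCategory.isIso_iff_bijective φ).mpr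
        ⟨φ.hom.injective, fun c => ⟨α c, by rw [← ConcreteCategory.comp_apply, h2]; rfl⟩⟩
    have hw : y₀.left ≫ f = 𝟙 (Spec (CommRingCat.of k)) := Over.w y₀
    rw [← cancel_epi (Spec.map φ), ← Category.assoc (Spec.map φ) _ y₀.left, reassoc_of% hφ, hw, Category.id_comp, hφ]
  have hp : p ∈ U := by
    rw [hU]
    intro W q a
    apply (Groth.Agent.DSPtsLib.theta_bijective f).1
    rw [hnat, Groth.Agent.GrpSchLib.HomUnitLocus.theta_one]
    show lift _ _ ≫ u = 1
    rw [show (Over.homMk W.hom rfl : (Over.map f).obj W ⟶ Y) = toUnit _ ≫ y₀ from Over.OverMorphism.ext ?_]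
    · exact h0 _ _
    · show W.hom = (W.hom ≫ f) ≫ y₀.left
      have hw : q.left ≫ Y.left.fromSpecResidueField p = W.hom := Over.w q
      rw [← hw, Category.assoc, Category.assoc]
      exact congrArg (q.left ≫ ·) (hsec.trans (Category.assoc _ _ _))
  have hUtop : (U : Set Y.left) = Set.univ := IsClopen.eq_univ ⟨hUc, U.2⟩ ⟨p, hp⟩
  -- the tautological point
  let Z : Over Y.left := Over.mk (fst Y M).left
  obtain ⟨a, ha⟩ := (Groth.Agent.DSPtsLib.theta_bijective (H := M) (Y := Z) f).2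
    (Over.homMk (snd Y M).left (by
      show (snd Y M).left ≫ M.hom = (fst Y M).left ≫ f
      rw [Over.w (snd Y M)]; exact (Over.w (fst Y M)).symm))
  have hrange : Set.range Z.hom.base ⊆ (U : Set Y.left) := by rw [hUtop]; exact Set.subset_univ _
  have h1 : a ≫ v = 1 := hTriv Z (Over.homMk (IsOpenImmersion.lift U.ι Z.hom (by rwa [Scheme.Opens.range_ι]))
    (IsOpenImmersion.lift_fac _ _ _)) a
  have h2 := congrArg (Groth.Agent.DSPtsLib.theta f) h1
  rw [hnat, Groth.Agent.GrpSchLib.HomUnitLocus.theta_one] at h2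
  let e : Y ⊗ M ⟶ (Over.map f).obj Z := Over.homMk (𝟙 _) (by
    show 𝟙 _ ≫ (fst Y M).left ≫ f = _
    rw [Category.id_comp]; exact Over.w (fst Y M))
  have h3 := congrArg (e ≫ ·) h2
  simp only [ev, MonObj.comp_one, comp_lift_assoc, ha] at h3
  refine Eq.trans ?_ h3
  conv_lhs => rw [← Category.id_comp u, ← lift_fst_snd]
  congr 2 <;> exact Over.OverMorphism.ext (Category.id_comp _).symm

/-- A connected family of homomorphisms modulo the series which is trivial at a point lies in it. -/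
theorem descend (hM : SGA3x.IsMultTypeFT M) (hG : GeometricallyConnected G.hom) :
    ∀ (i : ℕ) (Y : Over (Spec (CommRingCat.of k))) (_ : ConnectedSpace ↥Y.left)
      (y₀ : 𝟙_ (Over (Spec (CommRingCat.of k))) ⟶ Y) (u : Y ⊗ M ⟶ G), Zs G (i + 1) u →
      (∀ (X : Over (Spec (CommRingCat.of k))) (y : X ⟶ Y) (x x' : X ⟶ M),
        Congr i (lift y (x * x') ≫ u) ((lift y x ≫ u) * (lift y x' ≫ u))) →
      (∀ (X : Over (Spec (CommRingCat.of k))) (x : X ⟶ M), lift (toUnit X ≫ y₀) x ≫ u = 1) →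
      Zs G i u
  | 0, Y, _, y₀, u, hu, hm, h0 => rigid hM Y y₀ u hu (fun X y x x' => mul_inv_eq_one.mp (hm X y x x')) h0
  | i + 1, Y, hY, y₀, u, hu, hm, h0 => by
    haveI := hG
    haveI := hY
    haveI : UniversallyOpen G.hom := inferInstance
    haveI : ConnectedSpace ↥(Y ⊗ G).left := inferInstanceAs (ConnectedSpace ↥(pullback Y.hom G.hom))
    let yh : (Y ⊗ G) ⊗ M ⟶ Y ⊗ G := fst _ _
    let u' : (Y ⊗ G) ⊗ M ⟶ G := ⁅lift (yh ≫ fst Y G) (snd _ M) ≫ u, yh ≫ snd Y G⁆
    have hu' : ∀ {X : Over (Spec (CommRingCat.of k))} (w : X ⟶ Y ⊗ G) (x : X ⟶ M),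
        lift w x ≫ u' = ⁅lift (w ≫ fst Y G) x ≫ u, w ≫ snd Y G⁆ := fun w x => by
      simp only [u', yh, comp_comm, comp_lift_assoc, lift_fst_assoc, lift_snd]
    have key := descend hM hG i (Y ⊗ G) inferInstance (lift y₀ 1) u'
      (by rw [show u' = ⁅_, _⁆ from rfl]; exact hu _ _ _) (fun X w x x' => by
        rw [hu', hu', hu']
        have hz := hm X (w ≫ fst Y G) x x'
        have hb : Zs G (i + 1) ⁅lift (w ≫ fst Y G) x' ≫ u, w ≫ snd Y G⁆ := hu _ _ _
        have := comm_mul_left (a := lift (w ≫ fst Y G) x ≫ u) (h := w ≫ snd Y G) hz hb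
        rwa [inv_mul_cancel_right] at this) (fun X x => by
        rw [hu', Category.assoc (toUnit X), lift_fst, h0, commutatorElement_one_left])
    intro X' t h
    have h2 := zs_comp i (lift (lift (t ≫ fst Y M) h) (t ≫ snd Y M)) key
    rw [hu', lift_fst, lift_snd, ← comp_lift, lift_fst_snd, Category.comp_id] at h2
    exact h2

/-- A subgroup of multiplicative type of a connected nilpotent group is central. -/
theorem central_of_nilpotent [ConnectedSpace ↥G.left]
    (hnil : ∃ n : ℕ, ∀ X : Over (Spec (CommRingCat.of k)), (⊤ : Subgroup (X ⟶ G)).lowerCentralSeries n = ⊥)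
    (hM : SGA3x.IsMultTypeFT M) (m : M ⟶ G) [IsMonHom m]
    (X : Over (Spec (CommRingCat.of k))) (x : X ⟶ M) (g : X ⟶ G) : (x ≫ m) * g = g * (x ≫ m) := by
  obtain ⟨n, hn⟩ := hnil
  have hG : GeometricallyConnected G.hom := Groth.Agent.SecGerm.geometricallyConnected_group G fun s => by
    haveI : Surjective ((Spec (CommRingCat.of k)).fromSpecResidueField s) :=
      ⟨fun y => ⟨IsLocalRing.closedPoint _, Subsingleton.elim _ _⟩⟩
    let q := pullback.fst G.hom ((Spec (CommRingCat.of k)).fromSpecResidueField s)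
    haveI : IsPreimmersion q := inferInstance
    haveI : Surjective q := inferInstance
    let e := (Scheme.Hom.isEmbedding q).toHomeomorphOfSurjective q.surjective
    exact e.symm.surjective.connectedSpace e.symm.continuous
  let u₀ : G ⊗ M ⟶ G := ⁅fst G M, snd G M ≫ m⁆
  have hu₀ : ∀ {X : Over (Spec (CommRingCat.of k))} (g : X ⟶ G) (x : X ⟶ M), lift g x ≫ u₀ = ⁅g, x ≫ m⁆ :=
    fun g x => by simp [u₀, comp_comm]
  have step : ∀ j, Zs G (j + 1) u₀ → Zs G j u₀ := fun j hj =>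
    descend hM hG j G ‹_› 1 u₀ hj (fun X g x x' => by
      rw [hu₀, hu₀, hu₀, MonObj.mul_comp]
      have hb : Zs G (j + 1) ⁅g, x' ≫ m⁆ := by rw [← hu₀]; exact zs_comp _ _ hj
      show Zs G j _
      rw [show ⁅g, (x ≫ m) * (x' ≫ m)⁆ * (⁅g, x ≫ m⁆ * ⁅g, x' ≫ m⁆)⁻¹ =
        ⁅g, x ≫ m⁆ * ⁅x ≫ m, ⁅g, x' ≫ m⁆⁆ * ⁅g, x ≫ m⁆⁻¹ by simp only [commutatorElement_def]; group]
      exact (zs_group j).2.2.2 _ _ (zs_comm_right _ hb)) (fun X x => by
      rw [hu₀, MonObj.comp_one, commutatorElement_one_left])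
  have hall : ∀ j, j ≤ n → Zs G (n - j) u₀ := by
    intro j hj
    induction j with
    | zero => exact zs_top hn u₀
    | succ j ih =>
      refine step _ ?_
      rw [show n - (j + 1) + 1 = n - j by omega]
      exact ih (by omega)
  have h := hall n le_rfl
  rw [Nat.sub_self] at h
  have h2 := congrArg (lift g x ≫ ·) (show u₀ = 1 from h)
  simp only [hu₀, MonObj.comp_one] at h2
  exact (commutatorElement_eq_one_iff_mul_comm.mp h2).symm

end RedCentre19
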