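import Groth.Agent.RedCentre19.Descent
import Groth.Agent.GrpSchLib.AffineHopf
import Groth.Agent.GrpSchLib.RankOneNonComm
import Groth.Agent.DSPtsLib.Basic

/-!
# Homomorphisms of diagonalisable groups into the spectrum of a cocommutative Hopf algebra
-/

set_option autoImplicit false
set_option linter.style.haveILetI false

universe u

open CategoryTheory CategoryTheory.Limits MonoidalCategory CartesianMonoidalCategory MonObj GrpObj AlgebraicGeometry
open TensorProduct WithConv

noncomputable section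

namespace RedCentre19

open Groth.Agent.GrpSchLib.AffineHopf (sp spMap)
open Groth.Agent.DSPtsLib (theta theta_left theta_comp theta_mul theta_bijective)

/-- A homomorphism into a double base change as one into a base change. -/
theorem exists_flatten {S U V : Scheme.{u}} (f : U ⟶ S) (g : V ⟶ U) {X : Over S} [GrpObj X] {Y : Over V} [GrpObj Y]
    (φ₁ : Y ⟶ Red.bc g (Red.bc f X)) [IsMonHom φ₁] :
    ∃ φ₀ : Y ⟶ Red.bc (g ≫ f) X, IsMonHom φ₀ ∧
      φ₀.left ≫ pullback.fst _ _ = φ₁.left ≫ pullback.fst _ _ ≫ pullback.fst _ _ := by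
  let k : ∀ {W : Over V}, (W ⟶ Red.bc g (Red.bc f X)) → (W ⟶ Red.bc (g ≫ f) X) := fun {W} a =>
    Over.homMk (pullback.lift (a.left ≫ pullback.fst _ _ ≫ pullback.fst _ _) W.hom (by
      have h1 := Over.w a
      have h2 : pullback.snd (Red.bc f X).hom g = (Red.bc g (Red.bc f X)).hom := rfl
      have h3 : pullback.snd X.hom f = (Red.bc f X).hom := rfl
      rw [Category.assoc, Category.assoc, pullback.condition, h3, pullback.condition_assoc, h2, reassoc_of% h1]))
      (pullback.lift_snd _ _ _)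
  have kfst : ∀ {W : Over V} (a : W ⟶ Red.bc g (Red.bc f X)),
      (k a).left ≫ pullback.fst _ _ = a.left ≫ pullback.fst _ _ ≫ pullback.fst _ _ := fun a => pullback.lift_fst _ _ _
  have kth : ∀ {W : Over V} (a : W ⟶ Red.bc g (Red.bc f X)),
      theta (g ≫ f) (k a) = (Over.homMk (𝟙 W.left) (by
        show 𝟙 _ ≫ (W.hom ≫ g) ≫ f = W.hom ≫ g ≫ f
        simp) : (Over.map (g ≫ f)).obj W ⟶ (Over.map f).obj ((Over.map g).obj W)) ≫ theta f (theta g a) :=
    fun {W} a => Over.OverMorphism.ext (by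
      rw [theta_left, Over.comp_left, theta_left, theta_left, kfst]
      show _ = 𝟙 W.left ≫ _
      rw [Category.id_comp, Category.assoc])
  have kmul : ∀ {W : Over V} (a b : W ⟶ Red.bc g (Red.bc f X)), k (a * b) = k a * k b := fun {W} a b => by
    apply (theta_bijective (g ≫ f)).1
    rw [theta_mul, kth, kth, kth, theta_mul, theta_mul, MonObj.comp_mul]
  have knat : ∀ {W : Over V} (x : W ⟶ Y), x ≫ k φ₁ = k (x ≫ φ₁) := fun {W} x => Over.OverMorphism.ext (by
    refine pullback.hom_ext ?_ ?_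
    · rw [Over.comp_left, Category.assoc, kfst, kfst, Over.comp_left, Category.assoc]
    · show (x.left ≫ pullback.lift _ Y.hom _) ≫ pullback.snd _ _ = pullback.lift _ W.hom _ ≫ pullback.snd _ _
      rw [Category.assoc, pullback.lift_snd, pullback.lift_snd, Over.w x])
  refine ⟨k φ₁, Groth.Agent.GrpSchLib.RankOne.isMonHom_of_comp _ fun W a b => ?_, kfst φ₁⟩
  rw [knat, knat, knat, MonObj.mul_comp, kmul]

set_option backward.isDefEq.respectTransparency false in
/-- The comparison of the base change of an affine group, with its formula. -/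
theorem exists_bc_sp (k R A : Type u) [CommRing k] [CommRing R] [Algebra k R] [CommRing A] [HopfAlgebra k A] :
    ∃ e : Red.bc (Spec.map (CommRingCat.ofHom (algebraMap k R))) (sp k A) ≅ sp R (R ⊗[k] A),
      IsMonHom e.hom ∧ IsMonHom e.inv ∧ e.inv.left ≫ pullback.fst _ _ =
        Spec.map (CommRingCat.ofHom (Algebra.TensorProduct.includeRight (R := k) (A := R) (B := A)).toRingHom) := by
  let g : Red.bc (Spec.map (CommRingCat.ofHom (algebraMap k R))) (sp k A) ⟶ sp R (R ⊗[k] A) :=
    (pullbackSymmetry .. ≪≫ pullbackSpecIso' k R A).hom.asOver (Spec (CommRingCat.of R))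
  haveI : IsMonHom g := inferInstanceAs (IsMonHom
    ((pullbackSymmetry .. ≪≫ pullbackSpecIso' k R A).hom.asOver (Spec (CommRingCat.of R))))
  haveI : IsIso g.left := inferInstanceAs (IsIso (pullbackSymmetry .. ≪≫ pullbackSpecIso' k R A).hom)
  haveI : IsIso ((Over.forget _).map g) := ‹IsIso g.left›
  haveI : IsIso g := isIso_of_reflects_iso g (Over.forget _)
  refine ⟨asIso g, ‹_›, inferInstance, ?_⟩
  have h : (asIso g).inv.left = (pullbackSymmetry .. ≪≫ pullbackSpecIso' k R A).inv := by
    rw [← cancel_epi g.left]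
    show g.left ≫ (asIso g).inv.left = (pullbackSymmetry .. ≪≫ pullbackSpecIso' k R A).hom ≫ _
    rw [← Over.comp_left, Iso.hom_inv_id]
    exact (asIso g).hom_inv_id ▸ rfl
  rw [h, Iso.trans_inv]
  show ((pullbackSpecIso k R A).inv ≫ (pullbackSymmetry _ _).inv) ≫ pullback.fst _ _ = _
  rw [Category.assoc, pullbackSymmetry_inv_comp_fst, pullbackSpecIso_inv_snd]
  rfl

/-- Global functions of the spectrum pulled back. -/
theorem appTop_specMap {A B : Type u} [CommRing A] [CommRing B] (f : A →+* B) (x : A) :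
    (Spec.map (CommRingCat.ofHom f)).appTop ((Scheme.ΓSpecIso (CommRingCat.of A)).inv x) =
      (Scheme.ΓSpecIso (CommRingCat.of B)).inv (f x) := by
  have h := Scheme.ΓSpecIso_inv_naturality (CommRingCat.ofHom f)
  exact (congr($h x)).symm

variable {k : Type u} [Field k] {A : Type u} [CommRing A] [HopfAlgebra k A] [Coalgebra.IsCocomm k A]

/-- The ideal `J` is killed by homomorphisms from diagonalisable groups over any base. -/
theorem piece {R : Type u} [CommRing R] [Algebra k R] (Λ : Type) [CommGroup Λ]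
    (φ₀ : sp R (MonoidAlgebra R Λ) ⟶ Red.bc (Spec.map (CommRingCat.ofHom (algebraMap k R))) (sp k A)) [IsMonHom φ₀]
    {x : A} (hx : x ∈ J k A) :
    (φ₀.left ≫ pullback.fst _ _).appTop ((Scheme.ΓSpecIso (CommRingCat.of A)).inv x) = 0 := by
  classical
  obtain ⟨e, he₁, he₂, hf⟩ := exists_bc_sp k R A
  obtain ⟨φ, hφ⟩ := Groth.Agent.GrpSchLib.AffineHopf.exists_bialgHom (φ₀ ≫ e.hom)
  have h0 : φ₀.left ≫ pullback.fst _ _ = Spec.map (CommRingCat.ofHom (φ : R ⊗[k] A →ₐ[R] MonoidAlgebra R Λ).toRingHom) ≫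
      Spec.map (CommRingCat.ofHom (Algebra.TensorProduct.includeRight (R := k) (A := R) (B := A)).toRingHom) := by
    rw [← hf, show φ₀ = (φ₀ ≫ e.hom) ≫ e.inv by simp, hφ, Over.comp_left, Category.assoc]
    rfl
  have key : φ ((1 : R) ⊗ₜ[k] x) = 0 := by
    refine MonoidAlgebra.coeff_injective (Finsupp.ext fun χ => ?_)
    let f : A →ₗ[k] R :=
      ((MonoidAlgebra.basis Λ R).coord χ).restrictScalars k ∘ₗ
        ((φ : R ⊗[k] A →ₐ[R] MonoidAlgebra R Λ).toLinearMap.restrictScalars k ∘ₗ
          (Algebra.TensorProduct.includeRight : A →ₐ[k] R ⊗[k] A).toLinearMap)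
    have hf' : toConv f * toConv f = toConv f := by
      refine WithConv.ofConv_injective (LinearMap.ext fun a => ?_)
      have h1 : TensorProduct.map (φ : R ⊗[k] A →ₗ[R] MonoidAlgebra R Λ) (φ : R ⊗[k] A →ₗ[R] MonoidAlgebra R Λ)
          (Coalgebra.comul (R := R) ((1 : R) ⊗ₜ[k] a)) = Coalgebra.comul (R := R) (φ ((1 : R) ⊗ₜ[k] a)) :=
        CoalgHomClass.map_comp_comul_apply _ _
      have h2 := congrArg (fun z => LinearMap.mul' R R (TensorProduct.map ((MonoidAlgebra.basis Λ R).coord χ)
        ((MonoidAlgebra.basis Λ R).coord χ) z)) h1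
      rw [LinearMap.convMul_apply, ← (Coalgebra.Repr.arbitrary k a).eq]
      rw [TensorProduct.comul_tmul, CommSemiring.comul_apply, ← (Coalgebra.Repr.arbitrary k a).eq] at h2
      simp only [map_sum, TensorProduct.tmul_sum, TensorProduct.map_tmul, LinearMap.mul'_apply] at h2 ⊢
      refine Eq.trans (Finset.sum_congr rfl fun i _ => ?_) (h2.trans ?_)
      · simp [f]
      · show _ = (MonoidAlgebra.basis Λ R).coord χ (φ ((1 : R) ⊗ₜ[k] a))
        conv_rhs => rw [← MonoidAlgebra.sum_coeff_single (φ ((1 : R) ⊗ₜ[k] a)), Finsupp.sum, map_sum]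
        conv_lhs => rw [← MonoidAlgebra.sum_coeff_single (φ ((1 : R) ⊗ₜ[k] a)), Finsupp.sum, map_sum, map_sum, map_sum]
        refine Finset.sum_congr rfl fun ν _ => ?_
        rw [show MonoidAlgebra.single ν ((φ ((1 : R) ⊗ₜ[k] a)).coeff ν) =
          (φ ((1 : R) ⊗ₜ[k] a)).coeff ν • MonoidAlgebra.single ν (1 : R) by simp, map_smul, map_smul, map_smul,
          map_smul]
        by_cases h : ν = χ <;> simp [MonoidAlgebra.basis, h]
    exact kill hf' hx
  rw [h0]
  have h1 := appTop_specMap ((φ : R ⊗[k] A →ₐ[R] MonoidAlgebra R Λ).toRingHom.comp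
    (Algebra.TensorProduct.includeRight (R := k) (A := R) (B := A)).toRingHom) x
  rw [CommRingCat.ofHom_comp, Spec.map_comp] at h1
  refine h1.trans ?_
  show (Scheme.ΓSpecIso (CommRingCat.of (MonoidAlgebra R Λ))).inv (φ ((1 : R) ⊗ₜ[k] x)) = 0
  rw [key, map_zero]

end RedCentre19
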