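import Groth.Agent.RedCentre19.Idem
import Mathlib.RingTheory.HopfAlgebra.GroupLike
import Mathlib.RingTheory.HopfAlgebra.MonoidAlgebra
import Mathlib.RingTheory.Bialgebra.Equiv

/-!
# The projection of a cocommutative Hopf algebra onto the group algebra of its grouplike elements
-/

set_option autoImplicit false
set_option linter.style.haveILetI false

universe u v w

open TensorProduct WithConv Coalgebra

noncomputable section

namespace RedCentre19

variable {K : Type u} [Field K] [IsAlgClosed K] {A : Type u} [CommRing A] [HopfAlgebra K A]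
  [Coalgebra.IsCocomm K A] {R : Type w} [CommRing R] [Algebra K R]

/-- The idempotent functional of a grouplike element. -/
def e (γ : GroupLike K A) : WithConv (A →ₗ[K] K) := (exists_e γ.isGroupLikeElem_val).choose

theorem e_idem (γ : GroupLike K A) : e γ * e γ = e γ := (exists_e γ.isGroupLikeElem_val).choose_spec.1

theorem e_val [DecidableEq (GroupLike K A)] (γ δ : GroupLike K A) : e γ (δ : A) = if δ = γ then 1 else 0 := by
  split_ifs with h
  · subst h; exact (exists_e δ.isGroupLikeElem_val).choose_spec.2.1
  · exact (exists_e γ.isGroupLikeElem_val).choose_spec.2.2 _ δ.isGroupLikeElem_val fun h' => h (GroupLike.val_injective h')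

/-- Idempotent functionals agreeing on all grouplike elements are equal. -/
theorem ext_idem {f g : WithConv (A →ₗ[K] R)} (hf : f * f = f) (hg : g * g = g)
    (h : ∀ γ : GroupLike K A, f (γ : A) = g (γ : A)) : f = g := by
  refine WithConv.ofConv_injective (LinearMap.ext fun x => ?_)
  obtain ⟨D, hD, hx, hDs⟩ := exists_subC (K := K) ({x} : Finset A)
  haveI := hD
  exact agree D hDs (fun z _ => by rw [hf]) (fun z _ => by rw [hg]) (fun d _ hd => h ⟨d, hd⟩) x (hx (by simp))

/-- The idempotents of distinct grouplike elements are orthogonal. -/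
theorem e_mul [DecidableEq (GroupLike K A)] (γ δ : GroupLike K A) : e γ * e δ = if γ = δ then e γ else 0 := by
  split_ifs with h
  · subst h; exact e_idem γ
  · refine ext_idem (by rw [mul_mul_mul_comm, e_idem, e_idem]) (by rw [MulZeroClass.mul_zero]) fun η => ?_
    rw [conv_grp _ _ η.isGroupLikeElem_val, e_val, e_val]
    split_ifs with h1 h2
    · exact absurd (h1.symm.trans h2) h
    all_goals simp

theorem finite_support (a : A) : {γ : GroupLike K A | e γ a ≠ 0}.Finite := by
  classical
  obtain ⟨D, hD, hx, hDs⟩ := exists_subC (K := K) ({a} : Finset A)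
  haveI := hD
  refine ((finite_grouplike (K := K) D).preimage (GroupLike.val_injective.injOn (s := _))).subset fun γ hγ => ?_
  refine ⟨γ.isGroupLikeElem_val, by_contra fun hγD => hγ ?_⟩
  refine agree D hDs (f := e γ) (g := (0 : WithConv (A →ₗ[K] K))) (fun z _ => by rw [e_idem]) (fun z _ => by rw [MulZeroClass.mul_zero])
    (fun d hd hd' => ?_) a (hx (by simp))
  exact (e_val γ ⟨d, hd'⟩).trans (if_neg fun h => hγD (by rw [← h]; exact hd))

/-- The coefficients at the grouplike elements. -/
def coeffs (a : A) : GroupLike K A →₀ K :=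
  Finsupp.ofSupportFinite (fun γ => e γ a) (finite_support a)

@[simp] theorem coeffs_apply (a : A) (γ : GroupLike K A) : coeffs a γ = e γ a := rfl

variable (K) in
/-- The projection onto the group algebra, linearly. -/
def pL : A →ₗ[K] MonoidAlgebra K (GroupLike K A) where
  toFun a := .ofCoeff (coeffs a)
  map_add' a b := MonoidAlgebra.coeff_injective (Finsupp.ext fun γ => map_add (e γ).ofConv a b)
  map_smul' c a := MonoidAlgebra.coeff_injective (Finsupp.ext fun γ => map_smul (e γ).ofConv c a)

theorem coeff_pL (a : A) (γ : GroupLike K A) : ((pL K) a).coeff γ = e γ a := rfl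

theorem pL_val (δ : GroupLike K A) : (pL K) (δ : A) = MonoidAlgebra.single δ 1 := by
  classical
  refine MonoidAlgebra.coeff_injective (Finsupp.ext fun γ => ?_)
  rw [coeff_pL, e_val, MonoidAlgebra.coeff_single, Finsupp.single_apply]

/-- Every idempotent functional is determined by the projection. -/
theorem expand {f : WithConv (A →ₗ[K] R)} (hf : f * f = f) (a : A) :
    f a = ((pL K) a).coeff.sum fun γ c => c • f (γ : A) := by
  classical
  obtain ⟨D, hD, hx, hDs⟩ := exists_subC (K := K) ({a} : Finset A)
  haveI := hD
  let ι₀ : WithConv (A →ₗ[K] K) → WithConv (A →ₗ[K] R) := fun φ => toConv (Algebra.linearMap K R ∘ₗ φ.ofConv)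
  have hι : ∀ φ ψ, ι₀ φ * ι₀ ψ = ι₀ (φ * ψ) := fun φ ψ =>
    (WithConv.ofConv_injective (LinearMap.algHom_comp_convMul_distrib (Algebra.ofId K R) φ ψ)).symm
  let F : Finset (GroupLike K A) := (((pL K) a).coeff.support) ∪
    ((finite_grouplike (K := K) D).preimage (GroupLike.val_injective.injOn (s := _))).toFinset
  have hfγ : ∀ γ : GroupLike K A, f (γ : A) * f (γ : A) = f (γ : A) := fun γ => by
    rw [← conv_grp _ _ γ.isGroupLikeElem_val, hf]
  let g : WithConv (A →ₗ[K] R) := ∑ γ ∈ F, algebraMap R _ (f (γ : A)) * ι₀ (e γ)
  have hg : g * g = g := by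
    simp only [g, Finset.sum_mul, Finset.mul_sum]
    refine Finset.sum_congr rfl fun γ hγ => ?_
    rw [Finset.sum_eq_single γ]
    · rw [mul_mul_mul_comm, ← map_mul, hfγ, hι, e_idem]
    · intro δ _ hne
      rw [mul_mul_mul_comm, hι, e_mul, if_neg hne]
      simp [ι₀]
    · exact fun h => absurd hγ h
  have hgval : ∀ x : A, g x = ∑ γ ∈ F, e γ x • f (γ : A) := fun x => by
    show g.ofConv x = _
    simp only [g, WithConv.ofConv_sum, LinearMap.sum_apply]
    refine Finset.sum_congr rfl fun γ _ => ?_
    rw [← Algebra.smul_def, Algebra.smul_def (e γ x), mul_comm]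
    rfl
  have hagree : f a = g a := by
    refine agree D hDs (fun z _ => by rw [hf]) (fun z _ => by rw [hg]) (fun d hd hd' => ?_) a (hx (by simp))
    rw [hgval, Finset.sum_eq_single (⟨d, hd'⟩ : GroupLike K A)]
    · rw [e_val _ ⟨d, hd'⟩, if_pos rfl, one_smul]
    · intro γ _ hne
      rw [e_val γ ⟨d, hd'⟩, if_neg (Ne.symm hne), zero_smul]
    · intro h
      refine absurd (Finset.mem_union_right _ ?_) h
      rw [Set.Finite.mem_toFinset]
      exact ⟨hd', hd⟩
  rw [hagree, hgval]
  exact (Finsupp.sum_of_support_subset (pL K a).coeff (s := F) Finset.subset_union_left (fun γ c => c • f (γ : A))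
    fun γ _ => zero_smul K (f (γ : A))).symm

theorem pL_one : (pL K) (1 : A) = 1 := by
  rw [← GroupLike.val_one (R := K), pL_val]; rfl

theorem pL_mul (a b : A) : (pL K) (a * b) = (pL K) a * (pL K) b := by
  classical
  refine MonoidAlgebra.coeff_injective (Finsupp.ext fun γ => ?_)
  let F : WithConv (A →ₗ[K] WithConv (A →ₗ[K] K)) := toConv
    { toFun := fun x => toConv ((e γ).ofConv ∘ₗ LinearMap.mulLeft K x)
      map_add' := fun x y => WithConv.ofConv_injective (LinearMap.ext fun z => by
        show e γ ((x + y) * z) = e γ (x * z) + e γ (y * z)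
        rw [add_mul, map_add])
      map_smul' := fun c x => WithConv.ofConv_injective (LinearMap.ext fun z => by
        show e γ ((c • x) * z) = c • e γ (x * z)
        rw [smul_mul_assoc, map_smul]) }
  have hF : F * F = F := by
    refine WithConv.ofConv_injective (LinearMap.ext fun x => WithConv.ofConv_injective (LinearMap.ext fun z => ?_))
    show ((F * F) x) z = e γ (x * z)
    rw [← e_idem γ, LinearMap.convMul_apply, LinearMap.convMul_apply, Bialgebra.comul_mul]
    generalize comul (R := K) x = u
    induction u using TensorProduct.induction_on with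
    | zero => simp
    | tmul p q =>
      show ((F p * F q) : WithConv (A →ₗ[K] K)) z = _
      rw [LinearMap.convMul_apply]
      generalize comul (R := K) z = v
      induction v using TensorProduct.induction_on with
      | zero => simp
      | tmul p' q' => simp [F]
      | add v₁ v₂ h₁ h₂ => simp only [mul_add, map_add, h₁, h₂]
    | add u₁ u₂ h₁ h₂ =>
      simp only [map_add, WithConv.ofConv_add, LinearMap.add_apply, add_mul, h₁, h₂]
  have hval : ∀ δ : GroupLike K A, ∀ z, (F (δ : A)) z = e (δ⁻¹ * γ) z := by
    intro δ
    have h1 : (F (δ : A)) = e (δ⁻¹ * γ) := by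
      refine ext_idem ?_ (e_idem _) fun η => ?_
      · rw [← conv_grp F F δ.isGroupLikeElem_val, hF]
      · show e γ ((δ : A) * (η : A)) = _
        rw [← GroupLike.val_mul, e_val, e_val]
        simp only [eq_inv_mul_iff_mul_eq]
    exact fun z => by rw [h1]
  have h2 : e γ (a * b) = ((pL K) a).coeff.sum fun δ c => c * e (δ⁻¹ * γ) b := by
    show (F a) b = _
    rw [expand hF a, Finsupp.sum]
    show (∑ δ ∈ _, ((pL K) a).coeff δ • F (δ : A)).ofConv b = _
    rw [WithConv.ofConv_sum, LinearMap.sum_apply]
    refine Finset.sum_congr rfl fun δ _ => ?_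
    show ((pL K) a).coeff δ • (F (δ : A)) b = _
    rw [hval, smul_eq_mul]
  rw [coeff_pL, h2]
  conv_rhs => rw [← MonoidAlgebra.sum_coeff_single ((pL K) a), Finsupp.sum, Finset.sum_mul, MonoidAlgebra.coeff_sum,
    Finsupp.finset_sum_apply]
  refine Finset.sum_congr rfl fun δ _ => ?_
  rw [MonoidAlgebra.coeff_single_mul_apply, coeff_pL]
  simp [coeff_pL]

/-- Functionals detecting the tensor square of the group algebra. -/
theorem ext_groupAlgebra {x y : MonoidAlgebra K (GroupLike K A) ⊗[K] MonoidAlgebra K (GroupLike K A)}
    (h : ∀ γ δ, LinearMap.mul' K K (TensorProduct.map ((MonoidAlgebra.basis (GroupLike K A) K).coord γ)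
      ((MonoidAlgebra.basis (GroupLike K A) K).coord δ) x) =
      LinearMap.mul' K K (TensorProduct.map ((MonoidAlgebra.basis (GroupLike K A) K).coord γ)
      ((MonoidAlgebra.basis (GroupLike K A) K).coord δ) y)) : x = y := by
  let b := MonoidAlgebra.basis (GroupLike K A) K
  refine (b.tensorProduct b).repr.injective (Finsupp.ext fun ij => ?_)
  have key : ∀ z, (b.tensorProduct b).repr z ij = LinearMap.mul' K K (TensorProduct.map (b.coord ij.1) (b.coord ij.2) z) := fun z => by
    induction z using TensorProduct.induction_on with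
    | zero => simp
    | tmul p q =>
      rw [show ij = (ij.1, ij.2) from rfl, Module.Basis.tensorProduct_repr_tmul_apply]
      simp [mul_comm]
    | add p q hp hq => simp only [map_add, Finsupp.add_apply, hp, hq]
  rw [key, key, h]

variable (K) in
/-- The projection as a bialgebra map. -/
def proj : A →ₐc[K] MonoidAlgebra K (GroupLike K A) :=
  BialgHom.ofAlgHom (AlgHom.ofLinearMap (pL K) pL_one pL_mul)
    (AlgHom.ext fun a => by
      show counit (R := K) ((pL K) a) = counit (R := K) a
      have h1 := expand (R := K) (f := (1 : WithConv (A →ₗ[K] K))) (_root_.one_mul _) a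
      rw [LinearMap.convOne_apply, Algebra.algebraMap_self, RingHom.id_apply] at h1
      rw [h1]
      conv_lhs => rw [← MonoidAlgebra.sum_coeff_single ((pL K) a), Finsupp.sum, map_sum]
      refine Finset.sum_congr rfl fun δ _ => ?_
      simp [one_grp δ.isGroupLikeElem_val])
    (AlgHom.ext fun a => by
      classical
      show TensorProduct.map (pL K) (pL K) (comul (R := K) a) = comul (R := K) ((pL K) a)
      refine ext_groupAlgebra fun γ δ => ?_
      have hcoord : ∀ γ : GroupLike K A, (MonoidAlgebra.basis (GroupLike K A) K).coord γ ∘ₗ (pL K) = (e γ).ofConv :=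
        fun γ => LinearMap.ext fun x => rfl
      rw [← LinearMap.comp_apply (TensorProduct.map _ _) (TensorProduct.map (pL K) (pL K)), ← TensorProduct.map_comp,
        hcoord, hcoord, ← LinearMap.convMul_apply, e_mul]
      conv_rhs => rw [← MonoidAlgebra.sum_coeff_single ((pL K) a), Finsupp.sum, map_sum, map_sum, map_sum]
      rw [Finset.sum_eq_single γ]
      · rw [show MonoidAlgebra.single γ ((pL K a).coeff γ) = (pL K a).coeff γ • MonoidAlgebra.single γ (1 : K) by simp,
          map_smul, map_smul, map_smul]
        split_ifs with h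
        · subst h; simp [MonoidAlgebra.basis, coeff_pL]
        · simp [MonoidAlgebra.basis, h]
      · intro η _ hne
        rw [show MonoidAlgebra.single η ((pL K a).coeff η) = (pL K a).coeff η • MonoidAlgebra.single η (1 : K) by simp,
          map_smul, map_smul, map_smul]
        simp [MonoidAlgebra.basis, hne]
      · intro h
        rw [Finsupp.notMem_support_iff] at h
        simp [h])

theorem proj_apply (a : A) : proj K a = (pL K) a := rfl

theorem proj_surjective : Function.Surjective (proj K (A := A)) := fun y =>
  ⟨y.coeff.sum fun γ c => c • (γ : A), by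
    rw [Finsupp.sum, map_sum]
    conv_rhs => rw [← MonoidAlgebra.sum_coeff_single y]
    exact Finset.sum_congr rfl fun γ _ => by rw [map_smul, proj_apply, pL_val, MonoidAlgebra.smul_single', _root_.mul_one]⟩

/-- Idempotent functionals kill the kernel of the projection. -/
theorem idem_eq_zero {f : WithConv (A →ₗ[K] R)} (hf : f * f = f) {a : A} (ha : proj K a = 0) : f a = 0 := by
  rw [expand hf a, ← proj_apply, ha]
  simp

end RedCentre19
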